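import Mathlib.LinearAlgebra.Trace
import Mathlib.LinearAlgebra.Matrix.ToLin
import Mathlib.LinearAlgebra.Matrix.Trace
import Mathlib.Analysis.Complex.Basic
import Mathlib.Algebra.Order.BigOperators.Ring.Finset
import Mathlib.Tactic

/-!
# Projections of the sections of a block with defect group `3^(1+2)`

`P0`, `P1`, its conjugate and the rank one projections `c r (c r)*/9` add up to one; the rows
outside `T` are very small on `P0`.
-/

set_option autoImplicit false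
set_option linter.unusedSectionVars false

open scoped ComplexConjugate Matrix
open Finset

namespace H12.Extra27

/-- Hermitian idempotents adding up to one are orthogonal. -/
theorem mul_eq_zero_of_sum {ι J : Type*} [Fintype ι] [DecidableEq ι] [Fintype J]
    [DecidableEq J] (P : J → Matrix ι ι ℂ) (hh : ∀ j, (P j)ᴴ = P j) (hi : ∀ j, P j * P j = P j)
    (hs : ∑ j, P j = 1) {i j : J} (hij : j ≠ i) : P j * P i = 0 := by
  have key : ∑ j ∈ univ.erase i, (P j * P i)ᴴ * (P j * P i) = 0 := by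
    have e : ∀ j, (P j * P i)ᴴ * (P j * P i) = P i * P j * P i := by
      intro j
      rw [Matrix.conjTranspose_mul, hh, hh, Matrix.mul_assoc, ← Matrix.mul_assoc (P j) (P j),
        hi, ← Matrix.mul_assoc]
    simp only [e]
    have h1 : ∑ j, P i * P j * P i = P i := by
      rw [← Matrix.sum_mul, ← Matrix.mul_sum, hs, Matrix.mul_one, hi]
    rw [← Finset.add_sum_erase _ _ (mem_univ i), hi, hi] at h1
    exact add_eq_left.1 h1
  have h2 := congrArg Matrix.trace key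
  rw [Matrix.trace_sum, Matrix.trace_zero] at h2
  have h3 : ∀ A : Matrix ι ι ℂ, (Aᴴ * A).trace =
      ((∑ a, ∑ b, Complex.normSq (A b a) : ℝ) : ℂ) := by
    intro A
    simp only [Matrix.trace, Matrix.diag, Matrix.mul_apply, Matrix.conjTranspose_apply]
    push_cast
    refine sum_congr rfl fun a _ => sum_congr rfl fun b _ => ?_
    rw [Complex.normSq_eq_conj_mul_self]
    rfl
  simp only [h3] at h2
  rw [← Complex.ofReal_sum, Complex.ofReal_eq_zero] at h2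
  have h4 := (sum_eq_zero_iff_of_nonneg fun j _ => sum_nonneg fun a _ =>
    sum_nonneg fun b _ => Complex.normSq_nonneg _).1 h2 j (mem_erase.2 ⟨hij, mem_univ j⟩)
  ext b a
  have h5 := (sum_eq_zero_iff_of_nonneg fun a _ => sum_nonneg fun b _ =>
    Complex.normSq_nonneg _).1 h4 a (mem_univ a)
  simpa using Complex.normSq_eq_zero.1
    ((sum_eq_zero_iff_of_nonneg fun b _ => Complex.normSq_nonneg _).1 h5 b (mem_univ b))

/-- The section projections of a block. -/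
structure Data (ι R : Type*) [Fintype ι] [DecidableEq ι] [Fintype R] where
  o : ι
  T : Finset ι
  P0 : Matrix ι ι ℂ
  P1 : Matrix ι ι ℂ
  c : R → ι → ℂ
  z : ι → ι → ℤ
  w : ι → ℤ
  n : R → ι → ℤ
  ho : o ∈ T
  herm0 : P0ᴴ = P0
  idem0 : P0 * P0 = P0
  herm1 : P1ᴴ = P1
  idem1 : P1 * P1 = P1
  norm_c : ∀ r, ∑ χ, c r χ * conj (c r χ) = 9
  hsum : P0 + P1 + P1.map (starRingEnd ℂ) +
    ∑ r, Matrix.of (fun χ ψ => c r χ * conj (c r ψ) / 9) = 1
  hz : ∀ χ ψ, (z χ ψ : ℂ) = 27 * P0 χ ψ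
  hzT : ∀ χ, ∀ ψ ∈ T, z χ ψ ≠ 0
  hz3 : ∀ χ, χ ∉ T → ∀ ψ, (3 : ℤ) ∣ z χ ψ
  hz9 : ∀ χ, χ ∉ T → ∀ ψ, ψ ∉ T → (9 : ℤ) ∣ z χ ψ
  hw : ∀ χ, (w χ : ℂ) = 27 * P1 χ χ
  hP1o : ∀ χ, P1 χ o ≠ 0
  hw9 : ∀ χ, χ ∉ T → (9 : ℤ) ∣ w χ
  hn : ∀ r χ, c r χ * conj (c r χ) = (n r χ : ℂ)
  hn1 : ∀ r, ∀ χ ∈ T, 1 ≤ n r χ
  hco : ∀ r, c r o = 1

namespace Data

variable {ι R : Type*} [Fintype ι] [DecidableEq ι] [Fintype R] (D : Data ι R)

/-- The rank one projection of a column. -/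
noncomputable def X (r : R) : Matrix ι ι ℂ :=
  Matrix.of fun χ ψ => D.c r χ * conj (D.c r ψ) / 9

theorem X_apply (r : R) (χ ψ : ι) : D.X r χ ψ = D.c r χ * conj (D.c r ψ) / 9 := rfl

theorem X_herm (r : R) : (D.X r)ᴴ = D.X r := by
  ext χ ψ
  rw [Matrix.conjTranspose_apply, X_apply, X_apply]
  simp [mul_comm]

theorem X_idem (r : R) : D.X r * D.X r = D.X r := by
  ext χ ψ
  simp only [Matrix.mul_apply, X_apply]
  have : ∀ φ : ι, D.c r χ * conj (D.c r φ) / 9 * (D.c r φ * conj (D.c r ψ) / 9) =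
      D.c r χ * conj (D.c r ψ) / 81 * (D.c r φ * conj (D.c r φ)) := fun φ => by ring
  rw [sum_congr rfl fun φ _ => this φ, ← mul_sum, D.norm_c]
  ring

theorem X_trace (r : R) : (D.X r).trace = 1 := by
  simp only [Matrix.trace, Matrix.diag, X_apply]
  rw [← sum_div, D.norm_c]
  norm_num

/-- The conjugate of `P1`. -/
noncomputable def P2 : Matrix ι ι ℂ := D.P1.map (starRingEnd ℂ)

theorem P2_herm : D.P2ᴴ = D.P2 := by
  ext χ ψ
  have h := congrFun (congrFun D.herm1 χ) ψ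
  simp only [Matrix.conjTranspose_apply, P2, Matrix.map_apply] at h ⊢
  rw [← h]
  simp

theorem P2_idem : D.P2 * D.P2 = D.P2 := by
  rw [P2, ← Matrix.map_mul, D.idem1]

theorem hsum' : D.P0 + D.P1 + D.P2 + ∑ r, D.X r = 1 := D.hsum

theorem orth : D.P0 * D.P1 = 0 ∧ D.P1 * D.P0 = 0 ∧ (∀ r, D.P0 * D.X r = 0) ∧
    (∀ r, D.X r * D.P0 = 0) ∧ ∀ r r', r ≠ r' → D.X r * D.X r' = 0 := by
  classical
  let F : (Fin 3) ⊕ R → Matrix ι ι ℂ := Sum.elim ![D.P0, D.P1, D.P2] D.X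
  have hh : ∀ j, (F j)ᴴ = F j := by
    rintro (j | r)
    · fin_cases j
      exacts [D.herm0, D.herm1, D.P2_herm]
    · exact D.X_herm r
  have hi : ∀ j, F j * F j = F j := by
    rintro (j | r)
    · fin_cases j
      exacts [D.idem0, D.idem1, D.P2_idem]
    · exact D.X_idem r
  have hs : ∑ j, F j = 1 := by
    rw [Fintype.sum_sum_type, ← D.hsum']
    simp [F, Fin.sum_univ_three]
  refine ⟨?_, ?_, fun r => ?_, fun r => ?_, fun r r' h => ?_⟩
  · exact mul_eq_zero_of_sum F hh hi hs (i := .inl 1) (j := .inl 0) (by simp)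
  · exact mul_eq_zero_of_sum F hh hi hs (i := .inl 0) (j := .inl 1) (by simp)
  · exact mul_eq_zero_of_sum F hh hi hs (i := .inr r) (j := .inl 0) (by simp)
  · exact mul_eq_zero_of_sum F hh hi hs (i := .inl 0) (j := .inr r) (by simp)
  · exact mul_eq_zero_of_sum F hh hi hs (i := .inr r') (j := .inr r) (by simp [h])

theorem z_symm (χ ψ : ι) : D.z χ ψ = D.z ψ χ := by
  have h := congrFun (congrFun D.herm0 χ) ψ
  rw [Matrix.conjTranspose_apply] at h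
  have h2 : ((D.z χ ψ : ℤ) : ℂ) = ((D.z ψ χ : ℤ) : ℂ) := by
    rw [← map_intCast (starRingEnd ℂ) (D.z ψ χ), D.hz, D.hz, map_mul, map_ofNat, ← h]
    rfl
  exact_mod_cast h2

theorem z_mul (χ ψ : ι) : ∑ φ, D.z χ φ * D.z φ ψ = 27 * D.z χ ψ := by
  have h := congrFun (congrFun D.idem0 χ) ψ
  rw [Matrix.mul_apply] at h
  have h2 : ((∑ φ, D.z χ φ * D.z φ ψ : ℤ) : ℂ) = ((27 * D.z χ ψ : ℤ) : ℂ) := by
    push_cast
    simp only [D.hz]
    rw [← h, mul_sum, mul_sum]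
    exact sum_congr rfl fun φ _ => by ring
  exact_mod_cast h2

theorem z_row (χ : ι) : ∑ ψ, D.z χ ψ ^ 2 = 27 * D.z χ χ := by
  rw [← D.z_mul χ χ]
  exact sum_congr rfl fun ψ _ => by rw [sq, D.z_symm ψ χ]

theorem z_diag_pos (χ : ι) : 0 < D.z χ χ := by
  have h := D.z_row χ
  have h1 : 0 < D.z χ D.o ^ 2 := by
    have := D.hzT χ _ D.ho
    positivity
  have h2 := single_le_sum (f := fun ψ => D.z χ ψ ^ 2) (fun ψ _ => sq_nonneg _) (mem_univ D.o)
  omega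

theorem w_pos (χ : ι) : 0 < D.w χ := by
  have h := congrFun (congrFun D.idem1 χ) χ
  rw [Matrix.mul_apply] at h
  have e : ∀ ψ, D.P1 χ ψ * D.P1 ψ χ = (Complex.normSq (D.P1 χ ψ) : ℂ) := fun ψ => by
    have h1 := congrFun (congrFun D.herm1 ψ) χ
    rw [Matrix.conjTranspose_apply] at h1
    rw [← h1]
    exact Complex.mul_conj _
  have h2 : ((D.w χ : ℝ) : ℂ) = ((27 * ∑ ψ, Complex.normSq (D.P1 χ ψ) : ℝ) : ℂ) := by
    push_cast
    rw [← sum_congr rfl fun ψ _ => e ψ, h, D.hw]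
  have h3 : (D.w χ : ℝ) = 27 * ∑ ψ, Complex.normSq (D.P1 χ ψ) := by exact_mod_cast h2
  have h4 : 0 < ∑ ψ, Complex.normSq (D.P1 χ ψ) :=
    lt_of_lt_of_le (Complex.normSq_pos.2 (D.hP1o χ))
      (single_le_sum (f := fun ψ => Complex.normSq (D.P1 χ ψ))
        (fun ψ _ => Complex.normSq_nonneg _) (mem_univ D.o))
  have : (0 : ℝ) < D.w χ := by rw [h3]; positivity
  exact_mod_cast this

theorem diag (χ : ι) : D.z χ χ + 2 * D.w χ + 3 * ∑ r, D.n r χ = 27 := by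
  have h := congrFun (congrFun D.hsum' χ) χ
  simp only [Matrix.add_apply, Matrix.sum_apply, Matrix.one_apply_eq, X_apply, D.hn] at h
  have hw2 : 27 * D.P2 χ χ = (D.w χ : ℂ) := by
    rw [P2, Matrix.map_apply, ← map_intCast (starRingEnd ℂ) (D.w χ), D.hw, map_mul, map_ofNat]
  have : ((D.z χ χ + 2 * D.w χ + 3 * ∑ r, D.n r χ : ℤ) : ℂ) = ((27 : ℤ) : ℂ) := by
    push_cast
    rw [← sum_div] at h
    linear_combination (27 : ℂ) * h + D.hz χ χ + D.hw χ - hw2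
  exact_mod_cast this

theorem n_nonneg (r : R) (χ : ι) : 0 ≤ D.n r χ := by
  have h := D.hn r χ
  rw [Complex.mul_conj] at h
  have h2 : Complex.normSq (D.c r χ) = (D.n r χ : ℝ) := by exact_mod_cast h
  have := Complex.normSq_nonneg (D.c r χ)
  rw [h2] at this
  exact_mod_cast this

theorem n_sum_le (χ : ι) : ∑ r, D.n r χ ≤ 8 := by
  have := D.diag χ
  have := D.z_diag_pos χ
  have := D.w_pos χ
  omega

theorem out (χ : ι) (hχ : χ ∉ D.T) : D.z χ χ = 9 ∧ ∀ r, D.c r χ = 0 := by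
  have hd := D.diag χ
  have h1 := D.hz9 χ hχ χ hχ
  have h2 := D.hw9 χ hχ
  have h3 := D.z_diag_pos χ
  have h4 := D.w_pos χ
  have h5 : 0 ≤ ∑ r, D.n r χ := sum_nonneg fun r _ => D.n_nonneg r χ
  refine ⟨by omega, fun r => ?_⟩
  have h6 : ∑ r, D.n r χ = 0 := by omega
  have h7 := (sum_eq_zero_iff_of_nonneg fun r _ => D.n_nonneg r χ).1 h6 r (mem_univ r)
  have h8 := D.hn r χ
  rw [h7, Int.cast_zero, Complex.mul_conj, Complex.ofReal_eq_zero] at h8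
  exact Complex.normSq_eq_zero.1 h8

theorem abs_row (χ : ι) (hχ : χ ∉ D.T) : ∑ ψ ∈ D.Tᶜ, |D.z χ ψ| ≤ 18 := by
  have hrow := D.z_row χ
  rw [(D.out χ hχ).1, ← sum_add_sum_compl D.T] at hrow
  have hpos : 0 < ∑ ψ ∈ D.T, D.z χ ψ ^ 2 :=
    sum_pos (fun ψ hψ => by have := D.hzT χ ψ hψ; positivity) ⟨_, D.ho⟩
  have key : ∀ ψ ∈ D.Tᶜ, 9 * |D.z χ ψ| ≤ D.z χ ψ ^ 2 := by
    intro ψ hψ
    obtain ⟨k, hk⟩ := D.hz9 χ hχ ψ (mem_compl.1 hψ)
    rw [hk, abs_mul]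
    have h9 : |(9 : ℤ)| = 9 := by norm_num
    rcases eq_or_ne k 0 with rfl | hk0
    · simp
    · have : 1 ≤ |k| := Int.one_le_abs hk0
      rw [h9, mul_pow, ← sq_abs k]
      nlinarith
  have h1 := sum_le_sum key
  rw [← mul_sum] at h1
  have h2 : (9 : ℤ) ∣ ∑ ψ ∈ D.Tᶜ, |D.z χ ψ| :=
    dvd_sum fun ψ hψ => (dvd_abs _ _).2 (D.hz9 χ hχ ψ (mem_compl.1 hψ))
  omega

theorem form_le (β : ℕ) (hβ : ∀ χ, χ ∉ D.T → ∑ ψ ∈ D.Tᶜ, |D.z χ ψ| ≤ (β : ℤ)) (v : ι → ℝ)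
    (hv : ∀ χ ∈ D.T, v χ = 0) :
    ∑ χ, ∑ ψ, (D.z χ ψ : ℝ) * v χ * v ψ ≤ (β : ℝ) * ∑ χ, v χ ^ 2 := by
  have hz' : ∀ χ ψ, (D.z χ ψ : ℝ) * v χ * v ψ ≤
      |(D.z χ ψ : ℝ)| * v χ ^ 2 / 2 + |(D.z χ ψ : ℝ)| * v ψ ^ 2 / 2 := by
    intro χ ψ
    have h1 := le_abs_self ((D.z χ ψ : ℝ) * v χ * v ψ)
    rw [abs_mul, abs_mul] at h1
    have h2 : 0 ≤ |(D.z χ ψ : ℝ)| * (|v χ| - |v ψ|) ^ 2 := by positivity
    have e1 : |(D.z χ ψ : ℝ)| * |v χ| ^ 2 = |(D.z χ ψ : ℝ)| * v χ ^ 2 := by rw [sq_abs]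
    have e2 : |(D.z χ ψ : ℝ)| * |v ψ| ^ 2 = |(D.z χ ψ : ℝ)| * v ψ ^ 2 := by rw [sq_abs]
    linear_combination h1 + h2 / 2 + e1 / 2 + e2 / 2
  have hres : ∀ f : ι → ℝ, (∀ χ ∈ D.T, f χ = 0) → ∑ χ, f χ = ∑ χ ∈ D.Tᶜ, f χ := by
    intro f hf
    refine (sum_subset (subset_univ _) fun χ _ h => hf χ ?_).symm
    simpa using h
  rw [hres _ (fun χ hχ => by simp [hv χ hχ])]
  refine le_trans (sum_le_sum fun χ _ => (hres _ (fun ψ hψ => by simp [hv ψ hψ])).le.trans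
    (sum_le_sum fun ψ _ => hz' χ ψ)) ?_
  simp only [sum_add_distrib]
  conv_lhs => arg 2; rw [sum_comm]
  rw [← sum_add_distrib, hres (fun χ => v χ ^ 2) (fun χ hχ => by simp [hv χ hχ]), mul_sum]
  refine sum_le_sum fun χ hχ => ?_
  have hb : (∑ ψ ∈ D.Tᶜ, |(D.z χ ψ : ℝ)|) ≤ (β : ℝ) := by exact_mod_cast hβ χ (mem_compl.1 hχ)
  have hsym : ∑ ψ ∈ D.Tᶜ, |(D.z ψ χ : ℝ)| * v χ ^ 2 / 2 =
      (∑ ψ ∈ D.Tᶜ, |(D.z χ ψ : ℝ)|) * v χ ^ 2 / 2 := by
    rw [sum_mul, sum_div]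
    exact sum_congr rfl fun ψ _ => by rw [D.z_symm]
  rw [hsym, ← sum_div, ← sum_mul]
  nlinarith [sq_nonneg (v χ)]

variable {l lz : ℕ} (hl : D.P0.trace = (l : ℂ)) (hlz : D.P1.trace = (lz : ℂ))

include hl hlz in
theorem card_eq : Fintype.card ι = l + 2 * lz + Fintype.card R := by
  have h := congrArg Matrix.trace D.hsum'
  have h2 : D.P2.trace = (lz : ℂ) := by
    rw [P2, Matrix.trace]
    simp only [Matrix.diag, Matrix.map_apply, ← map_sum]
    rw [show ∑ χ, D.P1 χ χ = (lz : ℂ) from hlz, map_natCast]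
  simp only [Matrix.trace_add, Matrix.trace_sum, X_trace, Matrix.trace_one, hl, hlz, h2,
    sum_const, card_univ, nsmul_eq_mul, mul_one] at h
  exact_mod_cast (by push_cast; linear_combination -h :
    ((Fintype.card ι : ℕ) : ℂ) = ((l + 2 * lz + Fintype.card R : ℕ) : ℂ))

include hl in
theorem sum_z_diag : ∑ χ, D.z χ χ = 27 * l := by
  have : ((∑ χ, D.z χ χ : ℤ) : ℂ) = ((27 * l : ℤ) : ℂ) := by
    push_cast
    simp only [D.hz, ← mul_sum]
    rw [← hl]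
    rfl
  exact_mod_cast this

include hl in
theorem card_out_le' (β : ℕ) (hβ : ∀ χ, χ ∉ D.T → ∑ ψ ∈ D.Tᶜ, |D.z χ ψ| ≤ (β : ℤ)) :
    9 * ((Fintype.card ι : ℤ) - D.T.card) ≤ β * l := by
  have key : ∀ χ, 27 * ∑ ψ ∈ D.Tᶜ, D.z χ ψ ^ 2 ≤ β * ∑ ψ, D.z χ ψ ^ 2 := by
    intro χ
    let v : ι → ℝ := fun ψ => if ψ ∈ D.T then 0 else (D.z χ ψ : ℝ)
    set N : ℝ := ∑ ψ, v ψ ^ 2 with hN
    set Z : ι → ℝ := fun φ => ∑ ψ, (D.z φ ψ : ℝ) * v ψ with hZ
    have e1 : ∑ φ, (D.z χ φ : ℝ) * Z φ = 27 * N := by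
      simp only [hZ, hN, mul_sum]
      rw [sum_comm]
      refine sum_congr rfl fun ψ _ => ?_
      rw [show ∑ φ, (D.z χ φ : ℝ) * ((D.z φ ψ : ℝ) * v ψ) =
        ((∑ φ, D.z χ φ * D.z φ ψ : ℤ) : ℝ) * v ψ by push_cast; rw [sum_mul]; congr 1; ext; ring,
        D.z_mul]
      simp only [v]
      split_ifs <;> push_cast <;> ring
    have e2 : ∑ φ, Z φ ^ 2 ≤ 27 * ((β : ℝ) * N) := by
      have h1 := D.form_le β hβ v (fun ψ hψ => by simp [v, hψ])
      refine le_trans (le_of_eq ?_) (mul_le_mul_of_nonneg_left h1 (by norm_num : (0:ℝ) ≤ 27))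
      simp only [hZ, sq, sum_mul_sum]
      simp only [mul_sum]
      rw [sum_comm]
      refine sum_congr rfl fun ψ _ => ?_
      rw [sum_comm]
      refine sum_congr rfl fun ψ' _ => ?_
      rw [show ∑ φ, (D.z φ ψ : ℝ) * v ψ * ((D.z φ ψ' : ℝ) * v ψ') =
        ((∑ φ, D.z ψ φ * D.z φ ψ' : ℤ) : ℝ) * (v ψ * v ψ') by
          push_cast; rw [sum_mul]; refine sum_congr rfl fun φ _ => ?_; rw [D.z_symm ψ φ]; ring,
        D.z_mul]
      push_cast
      ring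
    have e3 := sum_mul_sq_le_sq_mul_sq univ (fun φ => (D.z χ φ : ℝ)) Z
    rw [e1] at e3
    have hN0 : 0 ≤ N := sum_nonneg fun ψ _ => sq_nonneg _
    have hR : (0 : ℝ) ≤ ∑ ψ, (D.z χ ψ : ℝ) ^ 2 := sum_nonneg fun ψ _ => sq_nonneg _
    have e4 : 27 * N ≤ (β : ℝ) * ∑ ψ, (D.z χ ψ : ℝ) ^ 2 := by
      rcases hN0.eq_or_lt with h0 | h0
      · rw [← h0, mul_zero]; exact mul_nonneg (Nat.cast_nonneg _) hR
      · have := e3.trans (mul_le_mul_of_nonneg_left e2 hR)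
        nlinarith
    have e5 : N = ((∑ ψ ∈ D.Tᶜ, D.z χ ψ ^ 2 : ℤ) : ℝ) := by
      push_cast
      rw [hN, ← sum_add_sum_compl D.T, sum_eq_zero fun ψ hψ => by simp [v, hψ], zero_add]
      exact sum_congr rfl fun ψ hψ => by simp [v, mem_compl.1 hψ]
    rw [e5] at e4
    exact_mod_cast e4
  have h := sum_le_sum (s := univ) fun χ _ => key χ
  rw [← mul_sum, ← mul_sum, sum_comm] at h
  have h1 : ∀ ψ ∈ D.Tᶜ, ∑ χ, D.z χ ψ ^ 2 = 243 := fun ψ hψ => by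
    rw [sum_congr rfl fun χ _ => by rw [D.z_symm χ ψ], D.z_row, (D.out ψ (mem_compl.1 hψ)).1]
    norm_num
  rw [sum_congr rfl h1, sum_const, sum_congr rfl fun χ _ => D.z_row χ, ← mul_sum,
    D.sum_z_diag hl, card_compl, nsmul_eq_mul, Nat.cast_sub (card_le_univ _)] at h
  linarith

include hl in
theorem card_out_le : (Fintype.card ι : ℤ) - D.T.card ≤ 2 * l := by
  have := D.card_out_le' hl 18 D.abs_row
  omega

include hl in
theorem rank_le : l + Fintype.card R ≤ D.T.card := by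
  classical
  set E : Matrix ι ι ℂ := D.P0 + ∑ r, D.X r with hE
  obtain ⟨-, -, h0X, hX0, hXX⟩ := D.orth
  have hEE : E * E = E := by
    rw [hE, Matrix.add_mul, Matrix.mul_add, Matrix.mul_add, D.idem0, Matrix.mul_sum,
      Matrix.sum_mul, sum_eq_zero fun r _ => h0X r, sum_eq_zero fun r _ => hX0 r, add_zero,
      zero_add, Matrix.sum_mul]
    congr 1
    refine sum_congr rfl fun r _ => ?_
    rw [Matrix.mul_sum, sum_eq_single r (fun r' _ h => hXX r r' (Ne.symm h)) (by simp), D.X_idem]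
  set f := Matrix.toLin' E with hf
  have hproj : LinearMap.IsProj (LinearMap.range f) f := by
    refine ⟨fun x => LinearMap.mem_range_self f x, ?_⟩
    rintro x ⟨y, rfl⟩
    rw [hf, ← LinearMap.comp_apply, ← Matrix.toLin'_mul, hEE]
  have htr := hproj.trace
  rw [hf, Matrix.trace_toLin'_eq, hE, Matrix.trace_add, Matrix.trace_sum, hl] at htr
  simp only [X_trace, sum_const, card_univ, nsmul_eq_mul, mul_one] at htr
  have hfin : Module.finrank ℂ (LinearMap.range f) = l + Fintype.card R := by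
    have : ((l + Fintype.card R : ℕ) : ℂ) = (Module.finrank ℂ (LinearMap.range f) : ℂ) := by
      push_cast
      exact htr
    exact_mod_cast this.symm
  rw [← hfin, ← Fintype.card_coe, ← Module.finrank_fintype_fun_eq_card (R := ℂ) (η := D.T)]
  refine LinearMap.finrank_le_finrank_of_injective
    (f := (LinearMap.funLeft ℂ ℂ (Subtype.val : D.T → ι)).comp (LinearMap.range f).subtype) ?_
  rw [← LinearMap.ker_eq_bot, LinearMap.ker_eq_bot']
  rintro ⟨v, hv⟩ h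
  have hv0 : ∀ χ ∈ D.T, v χ = 0 := fun χ hχ => congrFun h ⟨χ, hχ⟩
  have hfix : ∀ χ, ∑ ψ, E χ ψ * v ψ = v χ := fun χ =>
    congrFun (hproj.map_id v hv) χ
  have hP : ∀ χ, ∑ ψ, (D.z χ ψ : ℂ) * v ψ = 27 * v χ := by
    intro χ
    rw [← hfix χ, mul_sum]
    refine sum_congr rfl fun ψ _ => ?_
    by_cases hψ : ψ ∈ D.T
    · simp [hv0 ψ hψ]
    · rw [hE, Matrix.add_apply, Matrix.sum_apply, sum_eq_zero fun r _ => by
        rw [X_apply, (D.out ψ hψ).2 r]; simp, add_zero, D.hz]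
      ring
  apply Subtype.ext
  funext χ
  have hcomp : ∀ (g : ℂ →ₗ[ℝ] ℝ), (∀ (a : ℤ) (x : ℂ), g ((a : ℂ) * x) = (a : ℝ) * g x) →
      g (v χ) = 0 := by
    intro g hg
    have hx : ∀ χ, ∑ ψ, (D.z χ ψ : ℝ) * g (v ψ) = 27 * g (v χ) := fun χ => by
      have := congrArg g (hP χ)
      rw [map_sum, show (27 : ℂ) = ((27 : ℤ) : ℂ) by norm_num] at this
      simp only [hg] at this
      simpa using this
    have h1 := D.form_le 18 D.abs_row (fun ψ => g (v ψ)) (fun ψ hψ => by simp [hv0 ψ hψ])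
    rw [show ((18 : ℕ) : ℝ) = 18 by norm_num] at h1
    have h2 : ∑ χ, ∑ ψ, (D.z χ ψ : ℝ) * g (v χ) * g (v ψ) = 27 * ∑ χ, g (v χ) ^ 2 := by
      rw [mul_sum]
      refine sum_congr rfl fun χ _ => ?_
      rw [show (27 : ℝ) * g (v χ) ^ 2 = g (v χ) * (27 * g (v χ)) by ring, ← hx, mul_sum]
      exact sum_congr rfl fun ψ _ => by ring
    rw [h2] at h1
    have h3 : (0 : ℝ) ≤ ∑ χ, g (v χ) ^ 2 := sum_nonneg fun _ _ => sq_nonneg _
    have h4 : ∑ χ, g (v χ) ^ 2 = 0 := by linarith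
    exact pow_eq_zero_iff two_ne_zero |>.1
      ((sum_eq_zero_iff_of_nonneg fun _ _ => sq_nonneg _).1 h4 χ (mem_univ χ))
  exact Complex.ext (by simpa using hcomp Complex.reLm (fun a x => by simp))
    (by simpa using hcomp Complex.imLm (fun a x => by simp))

include hl hlz in
/-- With the rank of the centre section known, the block has the same rank. -/
theorem rank_eq (h : lz + Fintype.card R = D.T.card) : l = lz := by
  have h1 := D.card_eq hl hlz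
  have h2 := D.card_out_le hl
  have h3 := D.rank_le hl
  omega

end Data

end H12.Extra27
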