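import Cfsg.Agent.H12.Extra27.Sections
import Cfsg.Agent.H25.HeightTwoThree

/-!
# The projections of the principal `3`-block
-/

set_option autoImplicit false
set_option linter.unusedSectionVars false
set_option linter.style.haveILetI false

open Cfsg Finset Polynomial
open scoped ComplexConjugate Classical

namespace H12.Extra27

universe u

variable {G : Type u} [Group G] [Fintype G] [h3f : Fact (Nat.Prime 3)] {M : Ideal AlgInt}
  [M.IsPrime]

local notation "C[" x "]" => (Subgroup.centralizer ({x} : Set _))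

namespace Fus

variable (F : Fus G)

/-- Representatives of the classes of outer elements. -/
structure Reps (F : Fus G) where
  R : Finset G
  out : ∀ x ∈ R, F.Out x
  inj : ∀ x ∈ R, ∀ y ∈ R, IsConj x y → x = y
  cover : ∀ y, F.Out y → ∃ x ∈ R, IsConj x y

theorem pel_z : ∃ k : ℕ, orderOf F.z = 3 ^ k := ⟨1, by rw [F.orderOf_z, pow_one]⟩

theorem pel_out {x : G} (hx : F.Out x) : ∃ k : ℕ, orderOf x = 3 ^ k :=
  ⟨1, by rw [F.orderOf_out hx, pow_one]⟩

theorem factorization_card (F : Fus G) : (Nat.card G).factorization 3 = 3 := by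
  have h := Sylow.card_eq_multiplicity F.P
  rw [F.h27, show (27 : ℕ) = 3 ^ 3 by norm_num] at h
  exact (Nat.pow_right_injective (show 2 ≤ 3 by norm_num) h).symm

theorem defect_eq (F : Fus G) : blockDefect 3 (principalBlock M G) = 3 := by
  rw [H22.blockDefect_principalBlock, F.factorization_card]

theorem factorization_centralizer_out {x : G} (hx : F.Out x) :
    (Nat.card (C[x] : Subgroup G)).factorization 3 = 2 := by
  obtain ⟨R, hR⟩ := F.sylow_centralizer hx
  have hle : F.V x ≤ C[x] := inf_le_right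
  have h := Sylow.card_eq_multiplicity R
  rw [hR, Nat.card_congr (Subgroup.subgroupOfEquivOfLe hle).toEquiv,
    F.card_V hx, show (9 : ℕ) = 3 ^ 2 by norm_num] at h
  exact (Nat.pow_right_injective (show 2 ≤ 3 by norm_num) h).symm

theorem factorization_centralizer_z :
    (Nat.card (C[F.z] : Subgroup G)).factorization 3 = 3 := by
  have hle : F.S ≤ C[F.z] := fun y hy =>
    Subgroup.mem_centralizer_singleton_iff.2 (F.hzc y hy).symm
  refine le_antisymm ?_ ?_
  · refine le_trans ?_ F.factorization_card.le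
    exact (Nat.factorization_le_iff_dvd (Nat.card_pos (α := (C[F.z] : Subgroup G))).ne'
      (Nat.card_pos (α := G)).ne').2 (Subgroup.card_subgroup_dvd_card _) 3
  · rw [← h3f.out.pow_dvd_iff_le_factorization Nat.card_pos.ne',
      show 3 ^ 3 = Nat.card F.S by rw [F.h27]; norm_num]
    exact Subgroup.card_dvd_of_le hle

theorem z_ne_inv : F.z ≠ F.z⁻¹ := by
  intro h
  have h2 : F.z ^ 2 = 1 := by rw [pow_two]; nth_rw 2 [h]; exact mul_inv_cancel _
  have h3 := F.z3
  rw [pow_succ, h2, one_mul] at h3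
  exact F.hz1 h3

theorem secSum_pels (Rp : F.Reps) (χ ψ : IrrCharacter G) :
    classInner (χ : G → ℂ) (ψ : G → ℂ) =
      sec 1 χ ψ + sec F.z χ ψ + sec F.z⁻¹ χ ψ + ∑ x ∈ Rp.R, sec x χ ψ := by
  classical
  set U : Finset G := insert 1 (insert F.z (insert F.z⁻¹ Rp.R)) with hU
  have hUS : ∀ u ∈ U, u ∈ F.S := by
    intro u hu
    simp only [hU, mem_insert] at hu
    rcases hu with rfl | rfl | rfl | hu
    exacts [one_mem _, F.hzP, inv_mem F.hzP, (Rp.out u hu).1]
  have hcases : ∀ u ∈ U, u ∈ Subgroup.zpowers F.z ∨ u ∈ Rp.R := by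
    intro u hu
    simp only [hU, mem_insert] at hu
    rcases hu with rfl | rfl | rfl | hu
    exacts [Or.inl (one_mem _), Or.inl (Subgroup.mem_zpowers _),
      Or.inl (inv_mem (Subgroup.mem_zpowers _)), Or.inr hu]
  have hinj : ∀ u ∈ U, ∀ v ∈ U, IsConj u v → u = v := by
    intro u hu v hv h
    rcases hcases u hu with h1 | h1 <;> rcases hcases v hv with h2 | h2
    · obtain ⟨g, hg⟩ := isConj_iff.1 h
      have := F.conj_z_pow h1 (g := g) (by rw [hg]; exact hUS v hv)
      rw [← this, hg]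
    · exact absurd h.symm (F.not_isConj_out (Rp.out v h2) h1)
    · exact absurd h (F.not_isConj_out (Rp.out u h1) h2)
    · exact Rp.inj u h1 v h2 h
  have hp : ∀ u ∈ U, ∃ k : ℕ, orderOf u = 3 ^ k := by
    intro u hu
    obtain ⟨k, -, hk⟩ := (Nat.dvd_prime_pow Nat.prime_three).1
      (orderOf_dvd_of_pow_eq_one (F.hexp u (hUS u hu)) |>.trans (by norm_num : 3 ∣ 3 ^ 1))
    exact ⟨k, hk⟩
  have hcov : ∀ g : G, ∃ u ∈ U, IsConj u (H20.pPart 3 g) := by
    intro g
    obtain ⟨w, -, hw, h⟩ := F.exists_conj (H20.exists_orderOf_pPart (p := 3) g)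
    rcases h with h | h
    · refine ⟨w, ?_, hw.symm⟩
      rcases F.mem_zpowers_cases h with rfl | rfl | rfl <;> simp [hU]
    · obtain ⟨x, hx, hxw⟩ := Rp.cover w h
      exact ⟨x, by simp [hU, hx], hxw.trans hw.symm⟩
  choose r hrU hr using hcov
  have hfib : ∀ u ∈ U, ∑ g ∈ univ.filter (fun g => r g = u),
      (χ : G → ℂ) g * conj ((ψ : G → ℂ) g) = (Nat.card G : ℂ) * sec u χ ψ := by
    intro u hu
    have e1 : univ.filter (fun g => r g = u) =
        univ.filter (fun g => IsConj u (H20.pPart 3 g)) := by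
      ext g
      simp only [mem_filter, mem_univ, true_and]
      exact ⟨fun h => h ▸ hr g, fun h => hinj _ (hrU g) u hu ((hr g).trans h.symm)⟩
    rw [e1, ← sum_fiberwise_of_maps_to (g := fun g => H20.pPart 3 g)
      (t := univ.filter fun v => IsConj u v) (fun g hg => by simpa using hg)]
    have e2 : ∀ v ∈ univ.filter (fun v => IsConj u v),
        ∑ g ∈ (univ.filter fun g => IsConj u (H20.pPart 3 g)).filter
            (fun g => H20.pPart 3 g = v),
          (χ : G → ℂ) g * conj ((ψ : G → ℂ) g) = secSum u χ ψ := by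
      intro v hv
      simp only [mem_filter, mem_univ, true_and] at hv
      obtain ⟨c, rfl⟩ := isConj_iff.1 hv
      rw [← secSum_conj u c, secSum]
      refine sum_congr ?_ fun _ _ => rfl
      ext g
      simp only [mem_filter, mem_univ, true_and, mem_secSet]
      exact ⟨fun h => h.2, fun h => ⟨h ▸ hv, h⟩⟩
    rw [sum_congr rfl e2, sum_const, nsmul_eq_mul, sec, mul_div_assoc', eq_div_iff
      (Nat.cast_ne_zero.2 Nat.card_pos.ne'), ← H12.card_conjClass_mul_card_centralizer u,
      Nat.cast_mul]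
    ring
  rw [H12.classInner_def, ← sum_fiberwise_of_maps_to (g := r) (t := U) (fun g _ => hrU g),
    sum_congr rfl hfib, ← mul_sum, ← mul_assoc, inv_mul_cancel₀ (Nat.cast_ne_zero.2
      Nat.card_pos.ne'), one_mul, hU, sum_insert, sum_insert, sum_insert]
  · ring
  · intro h
    exact (Rp.out _ h).2 (inv_mem (Subgroup.mem_zpowers _))
  · simp only [mem_insert, not_or]
    exact ⟨F.z_ne_inv, fun h => (Rp.out _ h).2 (Subgroup.mem_zpowers _)⟩
  · simp only [mem_insert, not_or]
    exact ⟨fun h => F.hz1 h.symm, fun h => F.hz1 (inv_eq_one.1 h.symm),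
      fun h => (Rp.out _ h).2 (one_mem _)⟩

end Fus

/-! ### Values at elements of order three -/

theorem value_norm (χ : IrrCharacter G) {x : G} (hx : x ^ 3 = 1) :
    ∃ m : ℤ, (χ : G → ℂ) x * conj ((χ : G → ℂ) x) = (m : ℂ) := by
  obtain ⟨ω, hω⟩ := H19.exists_root 3 (by norm_num)
  obtain ⟨P, hP⟩ := H19.exists_poly (H12.isCharacter_irr χ) (by norm_num) hω x hx
  have h := hP 1
  rw [pow_one, pow_one] at h
  rw [h]
  exact norm_int hω P

theorem value_int (χ : IrrCharacter G) {x : G} (hx : x ^ 3 = 1) (hc : IsConj x x⁻¹) :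
    ∃ m : ℤ, (χ : G → ℂ) x = (m : ℂ) := by
  obtain ⟨ω, hω⟩ := H19.exists_root 3 (by norm_num)
  obtain ⟨P, hP⟩ := H19.exists_poly (H12.isCharacter_irr χ) (by norm_num) hω x hx
  have h := hP 1
  rw [pow_one, pow_one] at h
  rw [h]
  refine int_of_real hω P ?_
  rw [← h, ← H12.irr_inv]
  obtain ⟨c, hc'⟩ := isConj_iff.1 hc
  rw [← hc', H12.irr_isClassFunction χ x c]

theorem value_not_zero (hM : IsPModular 3 M) {χ : IrrCharacter G} (hχ : χ ∈ principalBlock M G)
    (h0 : blockHeight 3 (principalBlock M G) (χ : G → ℂ) = 0) {x : G}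
    (hx : ∃ k : ℕ, orderOf x = 3 ^ k) : ¬ MemLocalIdeal M ((χ : G → ℂ) x) := by
  intro h
  obtain ⟨j, hj⟩ := hx
  have h1 := H22.memIdeal_apply_sub_one hM (H12.isCharacter_irr χ) hj
  have h2 := H20.memIdeal_add h (H20.memIdeal_mul (H20.memRing_neg (H20.memRing_natCast 1)) h1)
  have h3 : MemLocalIdeal M ((charDegree (χ : G → ℂ) : ℕ) : ℂ) := by
    convert h2 using 1
    rw [← H22.irr_one_eq_charDegree]
    push_cast
    ring
  refine (H22.not_dvd_mdeg_iff hχ).2 h0 ?_
  rw [H22.mdeg, H22.blockExp_principalBlock, pow_zero, Nat.div_one]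
  exact (H20.natCast_memIdeal_iff hM _).1 h3

/-! ### The data -/

/-- The members of the principal block. -/
abbrev Idx (M : Ideal AlgInt) (G : Type u) [Group G] [Fintype G] : Type u :=
  {χ : IrrCharacter G // χ ∈ H22.blockFinset (principalBlock M G)}

theorem Idx.mem (χ : Idx M G) : χ.1 ∈ principalBlock M G := H22.mem_blockFinset.1 χ.2

/-- The height zero members. -/
noncomputable def heightZero (M : Ideal AlgInt) (G : Type u) [Group G] [Fintype G] :
    Finset (Idx M G) :=
  univ.filter fun χ => blockHeight 3 (principalBlock M G) (χ.1 : G → ℂ) = 0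

theorem mem_heightZero {χ : Idx M G} :
    χ ∈ heightZero M G ↔ blockHeight 3 (principalBlock M G) (χ.1 : G → ℂ) = 0 := by
  simp [heightZero]

theorem natCard_heightZero :
    Nat.card {χ : IrrCharacter G // χ ∈ principalBlock M G ∧
      blockHeight 3 (principalBlock M G) (χ : G → ℂ) = 0} = (heightZero M G).card := by
  rw [← Nat.card_eq_finsetCard]
  exact Nat.card_congr
    { toFun := fun χ => ⟨⟨χ.1, H22.mem_blockFinset.2 χ.2.1⟩, mem_heightZero.2 χ.2.2⟩
      invFun := fun χ => ⟨χ.1.1, χ.1.mem, mem_heightZero.1 χ.2⟩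
      left_inv := fun _ => rfl
      right_inv := fun _ => rfl }

theorem natCard_block_eq : Nat.card (principalBlock M G) = Fintype.card (Idx M G) := by
  rw [H22.natCard_block, Fintype.card_coe]

/-- The integers of the centre section. -/
theorem exists_w (hM : IsPModular 3 M) (F : Fus G) (χ : IrrCharacter G)
    (hχ : χ ∈ principalBlock M G) :
    ∃ m : ℤ, (m : ℂ) = 27 * sec F.z χ χ ∧
      (blockHeight 3 (principalBlock M G) (χ : G → ℂ) ≠ 0 → (9 : ℤ) ∣ m) ∧
      sec F.z χ (H12.oneIrr G) ≠ 0 := by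
  set H : Subgroup G := C[F.z] with hH
  haveI : Fintype H := Fintype.ofFinite _
  set b := principalBlock M H
  have hu := F.pel_z
  have hind : IsInducedBlock M H b (principalBlock M G) := H20.principal_induces hM hu
  have hd : blockDefect 3 b = blockDefect 3 (principalBlock M G) := by
    rw [H22.blockDefect_principalBlock, H22.blockDefect_principalBlock,
      F.factorization_centralizer_z, F.factorization_card]
  let zc : H := ⟨F.z, Subgroup.mem_centralizer_singleton_iff.2 rfl⟩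
  have hz : zc ∈ Subgroup.center H := Subgroup.mem_center_iff.2 fun c =>
    Subtype.ext (Subgroup.mem_centralizer_singleton_iff.1 c.2)
  have hsec : ∀ φ φ' : IrrCharacter G, φ ∈ principalBlock M G → φ' ∈ principalBlock M G →
      H19.MajorBound.contrib 3 H zc b 1 φ φ' = sec F.z φ φ' := by
    intro φ φ' hφ hφ'
    set Fv : IrrCharacter G → H → ℂ := fun χ s =>
      ∑ θ ∈ H22.blockFinset b, H19.MajorBound.mult H χ θ * H19.MajorBound.eps zc θ *
        (θ : H → ℂ) s with hFv
    have hval : ∀ (φ : IrrCharacter G) (s : H), φ ∈ principalBlock M G → ¬ 3 ∣ orderOf s →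
        (φ : G → ℂ) (F.z * (s : G)) = Fv φ s := by
      intro φ s hφ hs
      rw [H20.principal_shift hM hu hφ s hs, H22.Sub.blockPart_eq_smul_sum, Finset.sum_apply, hFv]
      refine sum_congr rfl fun θ _ => ?_
      have e : (fun c : H => (φ : G → ℂ) (F.z * (c : G))) =
          ∑ θ : IrrCharacter H,
            (H19.MajorBound.mult H φ θ * H19.MajorBound.eps zc θ) • (θ : H → ℂ) := by
        funext c
        rw [show F.z * (c : G) = ((zc * c : H) : G) from rfl, H19.MajorBound.res_eq_sum H φ,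
          Finset.sum_apply]
        refine sum_congr rfl fun η _ => ?_
        rw [H21.apply_central_mul η hz, Pi.smul_apply, smul_eq_mul, H19.MajorBound.eps]
        ring
      rw [e, H12.classInner_sum_left]
      simp [H12.classInner_smul_left, H12.classInner_irr]
    have hDelta : ∀ θ θ' : IrrCharacter H, H22.Delta 3 θ θ' = (Nat.card H : ℂ)⁻¹ *
        ∑ s ∈ univ.filter (fun s : H => ¬ 3 ∣ orderOf s), (θ : H → ℂ) s * conj ((θ' : H → ℂ) s) := by
      intro θ θ'
      rw [H22.Delta, H12.classInner_def, sum_filter]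
      congr 1
      refine sum_congr rfl fun s _ => ?_
      rw [H22.pRegularPart_apply]
      split_ifs <;> simp
    rw [sec, secSum_eq hu, sum_congr rfl fun s hs => by
      rw [hval φ s hφ (mem_filter.1 hs).2, hval φ' s hφ' (mem_filter.1 hs).2], div_eq_inv_mul]
    simp only [H19.MajorBound.contrib, hDelta, hFv, map_sum, map_mul, H19.MajorBound.conj_mult,
      pow_one, sum_mul, mul_sum]
    conv_lhs => rw [sum_comm]
    conv_rhs => rw [sum_comm]
    refine sum_congr rfl fun θ _ => ?_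
    rw [sum_comm]
    exact sum_congr rfl fun s _ => sum_congr rfl fun θ' _ => by ring
  have hval := fun (ψ : IrrCharacter G) (hψ : ψ ∈ principalBlock M G) =>
    H19.MajorTwo.contrib_valuation hM (a := 1) (by rw [F.orderOf_z, pow_one]) H hH hind hd hz rfl
      hχ hψ
  simp only [F.defect_eq] at hval
  obtain ⟨ω, hω⟩ := H19.exists_root 3 (by norm_num)
  obtain ⟨P, hP⟩ := H19.MajorBound.exists_poly_contrib (p := 3) hM H hind.1 hz
    (n := 3) (by rw [← Subgroup.orderOf_coe]; exact F.orderOf_z) hω χ χ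
  have hP1 := hP 1
  rw [hd, F.defect_eq, pow_one, hsec χ χ hχ hχ, show ((3 : ℕ) : ℂ) ^ 3 = 27 by norm_num] at hP1
  obtain ⟨m, hm⟩ := int_of_real hω P (by
    rw [← hP1, map_mul, conj_sec, map_ofNat])
  refine ⟨m, by rw [← hm, hP1], fun hne => ?_, fun h0 => ?_⟩
  · obtain ⟨hR, hI⟩ := hval χ hχ
    rw [hsec χ χ hχ hχ, show ((3 : ℕ) : ℂ) ^ 3 = 27 by norm_num, hP1, hm] at hR hI
    obtain ⟨v, rfl⟩ := H22.pow_dvd_of_memRing_int hM hR
    set h := blockHeight 3 (principalBlock M G) (χ : G → ℂ)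
    have hv : MemLocalIdeal M (v : ℂ) := by
      have := hI.2 hne
      push_cast at this
      rwa [mul_div_cancel_left₀ _ (pow_ne_zero _ (by norm_num))] at this
    obtain ⟨t, rfl⟩ := (H20.intCast_memIdeal_iff hM _).1 hv
    obtain ⟨j, hj⟩ : ∃ j, h = j + 1 := ⟨h - 1, by omega⟩
    exact ⟨3 ^ j * t, by rw [hj]; push_cast; ring⟩
  · obtain ⟨-, hI⟩ := hval (H12.oneIrr G) (H20.mem_blockOf_self (H12.oneIrr G))
    refine hI.1 ?_ (by simp [blockHeight, charDegree, H12.oneIrr_apply])
    rw [hsec χ _ hχ (H20.mem_blockOf_self (H12.oneIrr G)), h0, mul_zero, zero_div]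
    exact H20.memIdeal_zero

/-- Nonempty data from the sections. -/
theorem exists_data (hM : IsPModular 3 M) (F : Fus G) (Rp : F.Reps) :
    ∃ D : Data (Idx M G) Rp.R, D.T = heightZero M G ∧ D.o.1 = H12.oneIrr G ∧
      (∀ r χ, D.c r χ = (χ.1 : G → ℂ) (r : G)) ∧
      D.P0 = Matrix.of (fun χ ψ => H22.Delta 3 χ.1 ψ.1) ∧
      D.P1 = Matrix.of (fun χ ψ => sec F.z χ.1 ψ.1) := by
  have hB := H20.isPBlock_principalBlock (G := G) (M := M)
  obtain ⟨z, hz, hzm⟩ := H22.exists_isDeltaMatrix hM hB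
  simp only [F.defect_eq] at hz
  choose w hw1 hw2 hw3 using fun χ : Idx M G => exists_w hM F χ.1 χ.mem
  choose n hn using fun (r : Rp.R) (χ : Idx M G) =>
    value_norm χ.1 (F.hexp r (Rp.out r r.2).1)
  let o : Idx M G :=
    ⟨H12.oneIrr G, H22.mem_blockFinset.2 (H20.mem_blockOf_self (H12.oneIrr G))⟩
  have ho : o ∈ heightZero M G := mem_heightZero.2 (by
    show blockHeight 3 _ (H12.oneIrr G : G → ℂ) = 0
    simp [blockHeight, charDegree, H12.oneIrr_apply])
  have hWO := H22.weakOrth_of_block hM hB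
  have hsum : ∀ (f : IrrCharacter G → ℂ),
      ∑ φ : Idx M G, f φ.1 = ∑ φ ∈ H22.blockFinset (principalBlock M G), f φ :=
    fun f => sum_coe_sort _ f
  have hval : ∀ (r : Rp.R) (χ ψ : Idx M G), sec (r : G) χ.1 ψ.1 =
      (χ.1 : G → ℂ) (r : G) * conj ((ψ.1 : G → ℂ) (r : G)) / 9 := by
    intro r χ ψ
    rw [sec_complement hM (F.pel_out (Rp.out r r.2)) (F.complement_centralizer (Rp.out r r.2))
      χ.mem ψ.mem, F.factorization_centralizer_out (Rp.out r r.2)]
    norm_num
  refine ⟨{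
    o := o
    T := heightZero M G
    P0 := Matrix.of (fun χ ψ => H22.Delta 3 χ.1 ψ.1)
    P1 := Matrix.of (fun χ ψ => sec F.z χ.1 ψ.1)
    c := fun r χ => (χ.1 : G → ℂ) (r : G)
    z := fun χ ψ => z χ.1 ψ.1
    w := w
    n := n
    ho := ho
    herm0 := ?_
    idem0 := ?_
    herm1 := ?_
    idem1 := ?_
    norm_c := ?_
    hsum := ?_
    hz := fun χ ψ => ?_
    hzT := fun χ ψ hψ => ?_
    hz3 := fun χ hχ ψ => ?_
    hz9 := fun χ hχ ψ hψ => ?_
    hw := fun χ => hw1 χ
    hP1o := fun χ => hw3 χ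
    hw9 := fun χ hχ => hw2 χ (fun h => hχ (mem_heightZero.2 h))
    hn := hn
    hn1 := fun r χ hχ => ?_
    hco := fun r => ?_ }, rfl, rfl, fun _ _ => rfl, rfl, rfl⟩
  · ext χ ψ
    exact H22.conj_Delta 3 ψ.1 χ.1
  · ext χ ψ
    rw [Matrix.mul_apply]
    simp only [Matrix.of_apply, ← sec_one]
    rw [hsum fun φ => sec 1 χ.1 φ * sec 1 φ ψ.1]
    exact sec_idem hM (u := (1 : G)) ⟨0, by simp⟩ χ.mem ψ.1
  · ext χ ψ
    exact conj_sec F.z ψ.1 χ.1
  · ext χ ψ
    rw [Matrix.mul_apply]
    simp only [Matrix.of_apply]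
    rw [hsum fun φ => sec F.z χ.1 φ * sec F.z φ ψ.1]
    exact sec_idem hM F.pel_z χ.mem ψ.1
  · intro r
    rw [hsum fun φ => (φ : G → ℂ) (r : G) * conj ((φ : G → ℂ) (r : G)),
      col_norm hM (F.pel_out (Rp.out r r.2)) (F.complement_centralizer (Rp.out r r.2)),
      F.factorization_centralizer_out (Rp.out r r.2)]
    norm_num
  · ext χ ψ
    simp only [Matrix.add_apply, Matrix.sum_apply, Matrix.of_apply, Matrix.map_apply,
      Matrix.one_apply, ← hval, ← sec_inv, ← sec_one]
    rw [sum_coe_sort Rp.R (fun x => sec x χ.1 ψ.1), ← F.secSum_pels Rp, H12.classInner_irr]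
    exact if_congr Subtype.ext_iff.symm rfl rfl
  · show (z χ.1 ψ.1 : ℂ) = 27 * H22.Delta 3 χ.1 ψ.1
    rw [hz χ.1 χ.mem ψ.1]
    norm_num
  · intro h
    exact hzm.exact_zero χ.1 χ.mem ψ.1 ψ.mem (mem_heightZero.1 hψ) (by rw [h]; exact dvd_zero _)
  · have h := hzm.dvd χ.1 χ.mem ψ.1 ψ.mem
    exact (dvd_pow_self (3 : ℤ) (fun h0 => hχ (mem_heightZero.2 h0))).trans (by exact_mod_cast h)
  · have h := hzm.dvd_succ χ.1 χ.mem ψ.1 ψ.mem
      (Nat.pos_of_ne_zero fun h0 => hψ (mem_heightZero.2 h0))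
    have h1 : blockHeight 3 (principalBlock M G) (χ.1 : G → ℂ) ≠ 0 :=
      fun h0 => hχ (mem_heightZero.2 h0)
    refine dvd_trans ?_ h
    rw [show (9 : ℤ) = ((3 : ℕ) : ℤ) ^ 2 by norm_num]
    exact pow_dvd_pow _ (by omega)
  · have h := hn r χ
    have h0 : (χ.1 : G → ℂ) (r : G) ≠ 0 := fun e => value_not_zero hM χ.mem (mem_heightZero.1 hχ)
      (F.pel_out (Rp.out r r.2)) (by rw [e]; exact H20.memIdeal_zero)
    rw [Complex.mul_conj] at h
    have h2 : (0 : ℝ) < (n r χ : ℝ) := by
      have : Complex.normSq ((χ.1 : G → ℂ) (r : G)) = (n r χ : ℝ) := by exact_mod_cast h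
      rw [← this]
      exact Complex.normSq_pos.2 h0
    have h3 : 0 < n r χ := by exact_mod_cast h2
    omega
  · show (H12.oneIrr G : G → ℂ) (r : G) = 1
    exact H12.oneIrr_apply (G := G) (r : G)

/-- The rank of the block as a trace. -/
theorem trace_P0 (hM : IsPModular 3 M) :
    (Matrix.of (fun χ ψ : Idx M G => H22.Delta 3 χ.1 ψ.1)).trace =
      (blockRank 3 (principalBlock M G) : ℂ) := by
  rw [← H19.RegSpan.sum_classInner_eq_rank hM H20.isPBlock_principalBlock, H22.finsum_mem_block]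
  exact sum_coe_sort (H22.blockFinset (principalBlock M G)) fun φ => H22.Delta 3 φ φ

/-- The rank of the centre section as a trace. -/
theorem trace_P1 (hM : IsPModular 3 M) (F : Fus G) :
    (Matrix.of (fun χ ψ : Idx M G => sec F.z χ.1 ψ.1)).trace =
      (blockRank 3 (principalBlock M (C[F.z] : Subgroup G)) : ℂ) := by
  rw [← sec_trace hM F.pel_z]
  exact sum_coe_sort (H22.blockFinset (principalBlock M G)) fun φ => sec F.z φ φ

/-- Rational columns when outer elements are real. -/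
theorem exists_rat (hM : IsPModular 3 M) (F : Fus G) (Rp : F.Reps)
    (hreal : ∀ x ∈ Rp.R, IsConj x x⁻¹) (D : Data (Idx M G) Rp.R)
    (hT : D.T = heightZero M G) (hc : ∀ r χ, D.c r χ = (χ.1 : G → ℂ) (r : G)) :
    Nonempty (Data.Rat D) := by
  choose a ha using fun (r : Rp.R) (χ : Idx M G) =>
    value_int χ.1 (F.hexp r (Rp.out r r.2).1) (hreal r r.2)
  refine ⟨⟨a, fun r χ => by rw [hc, ha], fun r r' χ => ?_, fun r χ hχ hd => ?_⟩⟩
  · refine (H20.intCast_memIdeal_iff (M := M) hM _).1 ?_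
    obtain ⟨j, hj⟩ := F.pel_out (Rp.out r r.2)
    obtain ⟨j', hj'⟩ := F.pel_out (Rp.out r' r'.2)
    have h1 := H22.memIdeal_apply_sub_one hM (H12.isCharacter_irr χ.1) hj
    have h2 := H22.memIdeal_apply_sub_one hM (H12.isCharacter_irr χ.1) hj'
    have h3 := H20.memIdeal_add h1 (H20.memIdeal_mul (H20.memRing_neg (H20.memRing_natCast 1)) h2)
    convert h3 using 1
    rw [ha r χ, ha r' χ]
    push_cast
    ring
  · rw [hT, mem_heightZero] at hχ
    refine value_not_zero hM χ.mem hχ (F.pel_out (Rp.out r r.2)) ?_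
    rw [ha r χ]
    exact (H20.intCast_memIdeal_iff hM _).2 (by exact_mod_cast hd)

end H12.Extra27
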