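import Cfsg.Agent.H12.Extra27.Abstract

/-!
# The number of characters of height zero
-/

set_option autoImplicit false
set_option linter.unusedSectionVars false

open scoped ComplexConjugate Matrix
open Finset

namespace H12.Extra27

namespace Data

variable {ι R : Type*} [Fintype ι] [DecidableEq ι] [Fintype R] (D : Data ι R)

theorem col_orth {r r' : R} (h : r ≠ r') : ∑ χ, conj (D.c r χ) * D.c r' χ = 0 := by
  have h1 := congrFun (congrFun (D.orth.2.2.2.2 r r' h) D.o) D.o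
  rw [Matrix.mul_apply, Matrix.zero_apply] at h1
  simp only [X_apply, D.hco, map_one, mul_one, one_mul] at h1
  rw [sum_congr rfl fun χ _ => show conj (D.c r χ) * D.c r' χ =
    81 * (conj (D.c r χ) / 9 * (D.c r' χ / 9)) by ring, ← mul_sum, h1, mul_zero]

theorem sum_n (r : R) : ∑ χ ∈ D.T, D.n r χ = 9 := by
  have h : ((∑ χ, D.n r χ : ℤ) : ℂ) = ((9 : ℤ) : ℂ) := by
    push_cast
    simp only [← D.hn, D.norm_c]
  rw [← Int.cast_inj.1 h]
  refine sum_subset (subset_univ _) fun χ _ hχ => ?_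
  have h1 := D.hn r χ
  rw [(D.out χ hχ).2 r, zero_mul] at h1
  exact_mod_cast h1.symm

theorem card_T_of_eight (h : Fintype.card R = 8) : D.T.card = 9 := by
  have h1 : ∀ χ ∈ D.T, ∑ r, D.n r χ = 8 := fun χ hχ => by
    refine le_antisymm (D.n_sum_le χ) ?_
    refine le_trans (le_of_eq ?_) (sum_le_sum fun r _ => D.hn1 r χ hχ)
    rw [sum_const, card_univ, h]; norm_num
  have h2 : ∑ χ ∈ D.T, ∑ r, D.n r χ = 72 := by
    rw [sum_comm, sum_congr rfl fun r _ => D.sum_n r, sum_const, card_univ, h]; norm_num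
  rw [sum_congr rfl h1, sum_const, nsmul_eq_mul] at h2
  omega

/-- Rational columns, congruent modulo `3`. -/
structure Rat (D : Data ι R) where
  a : R → ι → ℤ
  ha : ∀ r χ, (a r χ : ℂ) = D.c r χ
  congr : ∀ r r' χ, (3 : ℤ) ∣ a r χ - a r' χ
  unit : ∀ r, ∀ χ ∈ D.T, ¬ (3 : ℤ) ∣ a r χ

variable {D} (A : Rat D)

theorem Rat.n_eq (r : R) (χ : ι) : D.n r χ = A.a r χ ^ 2 := by
  have h := D.hn r χ
  rw [← A.ha, map_intCast] at h
  have : ((D.n r χ : ℤ) : ℂ) = ((A.a r χ ^ 2 : ℤ) : ℂ) := by push_cast; rw [← h]; ring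
  exact_mod_cast this

theorem Rat.a_one (r : R) : A.a r D.o = 1 := by
  have h : ((A.a r D.o : ℤ) : ℂ) = ((1 : ℤ) : ℂ) := by rw [A.ha, D.hco]; simp
  exact_mod_cast h

theorem Rat.sq_total : ∑ χ ∈ D.T, (∑ r, A.a r χ) ^ 2 = 9 * Fintype.card R := by
  classical
  have h : ∀ r r', ∑ χ, A.a r χ * A.a r' χ = if r = r' then 9 else 0 := by
    intro r r'
    split_ifs with he
    · subst he
      have h1 := D.norm_c r
      simp only [← A.ha, map_intCast] at h1
      exact_mod_cast h1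
    · have h1 := D.col_orth he
      simp only [← A.ha, map_intCast] at h1
      exact_mod_cast h1
  calc ∑ χ ∈ D.T, (∑ r, A.a r χ) ^ 2 = ∑ χ, (∑ r, A.a r χ) ^ 2 := by
        refine sum_subset (subset_univ _) fun χ _ hχ => ?_
        rw [sum_eq_zero fun r _ => ?_]
        · simp
        · have h1 := A.ha r χ
          rw [(D.out χ hχ).2 r] at h1
          exact_mod_cast h1
    _ = ∑ r, ∑ r', ∑ χ, A.a r χ * A.a r' χ := by
        simp only [sq, sum_mul_sum]
        rw [sum_comm]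
        exact sum_congr rfl fun r _ => sum_comm
    _ = 9 * Fintype.card R := by
        simp [h, mul_comm]

theorem Rat.norm_total : ∑ χ ∈ D.T, ∑ r, A.a r χ ^ 2 = 9 * Fintype.card R := by
  rw [sum_comm, sum_congr rfl fun r _ => by
    rw [← sum_congr rfl fun χ _ => A.n_eq r χ, D.sum_n r]]
  rw [sum_const, card_univ, nsmul_eq_mul, mul_comm]

theorem Rat.norm_le (χ : ι) : ∑ r, A.a r χ ^ 2 ≤ 8 := by
  rw [← sum_congr rfl fun r _ => A.n_eq r χ]
  exact D.n_sum_le χ

theorem Rat.small (χ : ι) (r : R) : -2 ≤ A.a r χ ∧ A.a r χ ≤ 2 := by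
  have h := (single_le_sum (f := fun r => A.a r χ ^ 2) (fun r _ => sq_nonneg _) (mem_univ r)).trans
    (A.norm_le χ)
  constructor <;> nlinarith

theorem Rat.small' {χ : ι} (hχ : χ ∈ D.T) (r : R) :
    A.a r χ ^ 2 = 1 ∨ A.a r χ ^ 2 = 4 := by
  obtain ⟨h1, h2⟩ := A.small χ r
  have h3 := A.unit r χ hχ
  generalize A.a r χ = a at h1 h2 h3
  interval_cases a <;> simp_all

include A in
theorem card_T_of_four (h : Fintype.card R = 4) : D.T.card = 6 := by
  classical
  have hkey : ∀ χ ∈ D.T, 15 * ∑ r, A.a r χ ^ 2 + 3 * (∑ r, A.a r χ) ^ 2 = 108 := by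
    intro χ hχ
    let e := (Fintype.equivFinOfCardEq h).symm
    have hs := A.norm_le χ
    rw [← e.sum_comp] at hs ⊢
    rw [← e.sum_comp (fun r => A.a r χ)]
    simp only [Fin.sum_univ_four] at hs ⊢
    obtain ⟨l0, u0⟩ := A.small χ (e 0)
    obtain ⟨l1, u1⟩ := A.small χ (e 1)
    obtain ⟨l2, u2⟩ := A.small χ (e 2)
    obtain ⟨l3, u3⟩ := A.small χ (e 3)
    have n0 := A.unit (e 0) χ hχ
    have c1 := A.congr (e 1) (e 0) χ
    have c2 := A.congr (e 2) (e 0) χ
    have c3 := A.congr (e 3) (e 0) χ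
    generalize A.a (e 0) χ = a0 at *
    generalize A.a (e 1) χ = a1 at *
    generalize A.a (e 2) χ = a2 at *
    generalize A.a (e 3) χ = a3 at *
    interval_cases a0 <;> interval_cases a1 <;> simp_all <;>
      interval_cases a2 <;> simp_all <;> interval_cases a3 <;> simp_all
  have ht := sum_congr rfl hkey
  rw [sum_add_distrib, ← mul_sum, ← mul_sum, A.norm_total, A.sq_total, h, sum_const,
    nsmul_eq_mul] at ht
  omega

include A in
theorem card_T_of_two (h : Fintype.card R = 2) : D.T.card = 6 := by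
  classical
  let e := (Fintype.equivFinOfCardEq h).symm
  set s : ι → ℤ := fun χ => ∑ r, A.a r χ ^ 2 with hs
  set q : ι → ℤ := fun χ => (∑ r, A.a r χ) ^ 2 with hq
  have hkey : ∀ χ ∈ D.T, (s χ = 2 ∧ q χ = 4) ∨ (s χ = 5 ∧ q χ = 1) ∨ (s χ = 8 ∧ q χ = 16) := by
    intro χ hχ
    simp only [hs, hq]
    rw [← e.sum_comp, ← e.sum_comp (fun r => A.a r χ)]
    simp only [Fin.sum_univ_two]
    obtain ⟨l0, u0⟩ := A.small χ (e 0)
    obtain ⟨l1, u1⟩ := A.small χ (e 1)
    have n0 := A.unit (e 0) χ hχ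
    have c1 := A.congr (e 1) (e 0) χ
    generalize A.a (e 0) χ = a0 at *
    generalize A.a (e 1) χ = a1 at *
    interval_cases a0 <;> interval_cases a1 <;> simp_all
  have e1 : ∑ χ ∈ D.T, s χ = 18 := by rw [hs]; simp [A.norm_total, h]
  have e2 : ∑ χ ∈ D.T, q χ = 18 := by rw [hq]; simp [A.sq_total, h]
  have h1 : s D.o = 2 := by simp [hs, A.a_one, card_univ, h]
  set N : ℤ → ℤ := fun v => ((D.T.filter fun χ => s χ = v).card : ℤ) with hN
  have hsplit : ∀ f : ℤ → ℤ, ∑ χ ∈ D.T, f (s χ) = f 2 * N 2 + f 5 * N 5 + f 8 * N 8 := by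
    intro f
    have : ∀ χ ∈ D.T, f (s χ) = f 2 * (if s χ = 2 then 1 else 0) +
        f 5 * (if s χ = 5 then 1 else 0) + f 8 * (if s χ = 8 then 1 else 0) := by
      intro χ hχ
      rcases hkey χ hχ with ⟨hv, -⟩ | ⟨hv, -⟩ | ⟨hv, -⟩ <;> simp [hv]
    rw [sum_congr rfl this]
    rw [sum_add_distrib, sum_add_distrib, ← mul_sum, ← mul_sum, ← mul_sum, sum_boole, sum_boole, sum_boole]
  have hA := hsplit id
  have hB := hsplit (fun v => if v = 2 then 4 else if v = 5 then 1 else 16)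
  have hC := hsplit (fun _ => 1)
  simp only [id_eq, e1] at hA
  rw [← sum_congr rfl fun χ hχ => show q χ = (if s χ = 2 then 4 else if s χ = 5 then 1 else 16) by
    rcases hkey χ hχ with ⟨hv, hv'⟩ | ⟨hv, hv'⟩ | ⟨hv, hv'⟩ <;> simp [hv, hv'], e2] at hB
  simp only [sum_const, nsmul_eq_mul, mul_one, one_mul] at hC
  norm_num at hA hB hC
  have h2 : 1 ≤ N 2 := by
    have : 0 < (D.T.filter fun χ => s χ = 2).card :=
      card_pos.2 ⟨D.o, mem_filter.2 ⟨D.ho, h1⟩⟩
    simp only [hN]; omega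
  have h5 : 0 ≤ N 5 := Int.natCast_nonneg _
  have h8 : 0 ≤ N 8 := Int.natCast_nonneg _
  omega

include A in
theorem card_T_of_one (h : Fintype.card R = 1) (h3 : D.T.card ≠ 3) :
    D.T.card = 6 ∨ (D.T.card = 9 ∧ ∀ r, ∀ χ ∈ D.T, A.a r χ ^ 2 = 1) := by
  classical
  obtain ⟨r, hr⟩ := Fintype.card_eq_one_iff.1 h
  have hsplit : ∀ χ ∈ D.T, A.a r χ ^ 2 = 1 + 3 * (if A.a r χ ^ 2 = 4 then 1 else 0) := by
    intro χ hχ
    rcases A.small' hχ r with hv | hv <;> simp [hv]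
  have hsum : ∑ χ ∈ D.T, A.a r χ ^ 2 = 9 := by
    rw [← sum_congr rfl fun χ _ => A.n_eq r χ]; exact D.sum_n r
  rw [sum_congr rfl hsplit, sum_add_distrib, ← mul_sum, sum_boole, sum_const, nsmul_eq_mul,
    mul_one] at hsum
  have h1 : (D.T.filter fun χ => A.a r χ ^ 2 = 4).card < D.T.card :=
    card_lt_card (filter_ssubset.2 ⟨D.o, D.ho, by simp [A.a_one]⟩)
  rcases Nat.eq_zero_or_pos (D.T.filter fun χ => A.a r χ ^ 2 = 4).card with h0 | h0
  · refine Or.inr ⟨by push_cast at hsum; omega, fun r' χ hχ => ?_⟩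
    rw [hr r']
    have := (filter_eq_empty_iff.1 (card_eq_zero.1 h0)) hχ
    exact (A.small' hχ r).resolve_right this
  · push_cast at hsum; omega

include A in
/-- Nine characters of height zero with one column of signs make the centre section small. -/
theorem le_four_of_nine (h : Fintype.card R = 1) (h9 : D.T.card = 9)
    (hA : ∀ r, ∀ χ ∈ D.T, A.a r χ ^ 2 = 1) {l lz : ℕ} (hl : D.P0.trace = (l : ℂ))
    (hlz : D.P1.trace = (lz : ℂ)) : lz ≤ 4 := by
  classical
  obtain ⟨r, -⟩ := Fintype.card_eq_one_iff.1 h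
  have hrow : ∀ χ, χ ∉ D.T → ∑ ψ ∈ D.Tᶜ, |D.z χ ψ| ≤ ((9 : ℕ) : ℤ) := by
    intro χ hχ
    rw [← add_sum_erase _ _ (mem_compl.2 hχ), (D.out χ hχ).1]
    suffices hz0 : ∀ ψ ∈ D.Tᶜ.erase χ, D.z χ ψ = 0 by
      rw [sum_eq_zero fun ψ hψ => by rw [hz0 ψ hψ, abs_zero]]
      norm_num
    intro ψ hψ
    by_contra hne
    have h81 : 81 ≤ D.z χ ψ ^ 2 := by
      obtain ⟨k, hk⟩ := D.hz9 χ hχ ψ (mem_compl.1 (mem_of_mem_erase hψ))
      have hk0 : k ≠ 0 := fun e0 => hne (by rw [hk, e0, mul_zero])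
      have : 0 < k ^ 2 := by positivity
      rw [hk, mul_pow]; omega
    have h9le : ∀ φ ∈ D.T, 9 ≤ D.z χ φ ^ 2 := by
      intro φ hφ
      obtain ⟨k, hk⟩ := D.hz3 χ hχ φ
      have hk0 : k ≠ 0 := fun e0 => D.hzT χ φ hφ (by rw [hk, e0, mul_zero])
      have : 0 < k ^ 2 := by positivity
      rw [hk, mul_pow]; omega
    have htot := D.z_row χ
    rw [← sum_add_sum_compl D.T, ← add_sum_erase _ _ (mem_compl.2 hχ), (D.out χ hχ).1] at htot
    have hb := single_le_sum (f := fun φ => D.z χ φ ^ 2) (fun φ _ => sq_nonneg _) hψ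
    have hTle : ∑ φ ∈ D.T, D.z χ φ ^ 2 ≤ 81 := by
      linarith
    have heq : ∀ φ ∈ D.T, D.z χ φ ^ 2 = 9 := by
      intro φ hφ
      refine le_antisymm ?_ (h9le φ hφ)
      have e := sum_erase_add D.T (fun φ => D.z χ φ ^ 2) hφ
      have h72 : 72 ≤ ∑ φ' ∈ D.T.erase φ, D.z χ φ' ^ 2 := by
        refine le_trans (le_of_eq ?_) (sum_le_sum fun φ' hφ' => h9le φ' (mem_of_mem_erase hφ'))
        rw [sum_const, card_erase_of_mem hφ, h9]; norm_num
      linarith
    have hzero : ∑ φ ∈ D.T, D.z χ φ * A.a r φ = 0 := by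
      have h0 : ((∑ φ, D.z χ φ * A.a r φ : ℤ) : ℂ) = ((0 : ℤ) : ℂ) := by
        push_cast
        have h1 := congrFun (congrFun (D.orth.2.2.1 r) χ) D.o
        rw [Matrix.mul_apply, Matrix.zero_apply] at h1
        simp only [D.hz, A.ha]
        rw [sum_congr rfl fun φ _ => show 27 * D.P0 χ φ * D.c r φ =
          243 * (D.P0 χ φ * D.X r φ D.o) by rw [X_apply, D.hco, map_one]; ring,
          ← mul_sum, h1, mul_zero]
      rw [← Int.cast_inj.1 h0]
      refine sum_subset (subset_univ _) fun φ _ hφ => ?_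
      have h1 := A.ha r φ
      rw [(D.out φ hφ).2 r] at h1
      have h2 : A.a r φ = 0 := by exact_mod_cast h1
      rw [h2, mul_zero]
    have hodd : ∀ φ ∈ D.T, (D.z χ φ * A.a r φ) % 2 = 1 := by
      intro φ hφ
      have e1 : D.z χ φ ^ 2 = 3 ^ 2 := by rw [heq φ hφ]; norm_num
      rcases sq_eq_sq_iff_eq_or_eq_neg.1 e1 with h1 | h1 <;>
        rcases sq_eq_one_iff.1 (hA r φ hφ) with h2 | h2 <;> rw [h1, h2] <;> decide
    have := congrArg (fun x : ℤ => x % 2) hzero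
    rw [Finset.sum_int_mod, sum_congr rfl hodd, sum_const, h9] at this
    norm_num at this
  have h1 := D.card_out_le' hl 9 hrow
  have h2 := D.card_eq hl hlz
  omega

end Data

/-- The projections when the centre is central in the group. -/
structure CData (ι R : Type*) [Fintype ι] [DecidableEq ι] [Fintype R] extends Data ι R where
  lam : ι → ℂ
  hlam : ∀ χ, lam χ ^ 3 = 1
  hP1 : ∀ χ ψ, P1 χ ψ = lam χ * conj (lam ψ) * P0 χ ψ
  hlamc : ∀ r χ, c r χ ≠ 0 → lam χ = 1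

namespace CData

variable {ι R : Type*} [Fintype ι] [DecidableEq ι] [Fintype R] (C : CData ι R)

theorem conj_lam (χ : ι) : conj (C.lam χ) = C.lam χ ^ 2 := by
  have h := C.hlam χ
  have hn : ‖C.lam χ‖ = 1 := Complex.norm_eq_one_of_pow_eq_one h three_ne_zero
  rw [← Complex.inv_eq_conj hn]
  refine inv_eq_of_mul_eq_one_right ?_
  linear_combination h

theorem lam_mul_conj (χ : ι) : C.lam χ * conj (C.lam χ) = 1 := by
  rw [C.conj_lam]; linear_combination C.hlam χ

theorem P1_diag (χ : ι) : C.P1 χ χ = C.P0 χ χ := by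
  rw [C.hP1, C.lam_mul_conj, one_mul]

theorem trace_eq : C.P1.trace = C.P0.trace := sum_congr rfl fun χ _ => C.P1_diag χ

theorem lam_T [Nonempty R] (χ : ι) (hχ : χ ∈ C.T) : C.lam χ = 1 := by
  refine C.hlamc (Classical.arbitrary R) χ fun h => ?_
  have h1 := C.hn (Classical.arbitrary R) χ
  rw [h, zero_mul] at h1
  have h2 : C.n (Classical.arbitrary R) χ = 0 := by exact_mod_cast h1.symm
  have := C.hn1 (Classical.arbitrary R) χ hχ
  omega

theorem sum_lam_z_sq (χ : ι) : ∑ ψ, C.lam ψ * (C.z χ ψ : ℂ) ^ 2 = 0 := by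
  have h := congrFun (congrFun C.toData.orth.1 χ) χ
  rw [Matrix.mul_apply, Matrix.zero_apply] at h
  have e : ∀ ψ, C.lam ψ * (C.z χ ψ : ℂ) ^ 2 = 729 * C.lam χ * (C.P0 χ ψ * C.P1 ψ χ) := fun ψ => by
    have h1 : C.P0 ψ χ = C.P0 χ ψ := by
      have h2 := congrArg (Int.cast : ℤ → ℂ) (C.toData.z_symm χ ψ)
      rw [C.hz, C.hz] at h2
      linear_combination -(1 / 27 : ℂ) * h2
    rw [C.hz, C.hP1, h1]
    linear_combination -(729 * C.lam ψ * C.P0 χ ψ ^ 2) * C.lam_mul_conj χ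
  rw [sum_congr rfl fun ψ _ => e ψ, ← mul_sum, h, mul_zero]

theorem sum_lam : ∑ χ, C.lam χ = (Fintype.card R : ℂ) := by
  have hd : ∀ χ, C.lam χ = C.lam χ * (3 * C.P0 χ χ) + ∑ r, C.c r χ * conj (C.c r χ) / 9 := by
    intro χ
    have h := congrFun (congrFun C.toData.hsum' χ) χ
    simp only [Matrix.add_apply, Matrix.sum_apply, Matrix.one_apply_eq, Data.X_apply] at h
    have h2 : C.toData.P2 χ χ = C.P0 χ χ := by
      rw [Data.P2, Matrix.map_apply, C.P1_diag]
      have := congrFun (congrFun C.herm0 χ) χ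
      rwa [Matrix.conjTranspose_apply] at this
    rw [h2, C.P1_diag] at h
    have h3 : C.lam χ * (∑ r, C.c r χ * conj (C.c r χ) / 9) =
        ∑ r, C.c r χ * conj (C.c r χ) / 9 := by
      by_cases hl : C.lam χ = 1
      · rw [hl, one_mul]
      · rw [sum_eq_zero fun r _ => ?_, mul_zero]
        rw [not_imp_comm.1 (C.hlamc r χ) hl]; simp
    rw [← h3]
    linear_combination (-C.lam χ) * h
  rw [sum_congr rfl fun χ _ => hd χ, sum_add_distrib]
  have hz : ∑ χ, C.lam χ * (3 * C.P0 χ χ) = 0 := by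
    have e : ∀ χ, C.lam χ * (3 * C.P0 χ χ) = (1 / 243 : ℂ) * ∑ ψ, C.lam χ * (C.z χ ψ : ℂ) ^ 2 := by
      intro χ
      rw [← mul_sum, show ∑ ψ, (C.z χ ψ : ℂ) ^ 2 = 27 * (C.z χ χ : ℂ) by
        exact_mod_cast C.toData.z_row χ, C.hz]
      ring
    rw [sum_congr rfl fun χ _ => e χ, ← mul_sum, sum_comm, sum_eq_zero fun ψ _ => ?_, mul_zero]
    rw [sum_congr rfl fun χ _ => by rw [C.toData.z_symm χ ψ]]
    exact C.sum_lam_z_sq ψ
  rw [hz, zero_add, sum_comm]
  simp [← sum_div, C.norm_c]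

theorem three_mul_card_filter (w : ℂ) (hw : w ^ 3 = 1) :
    3 * ((univ.filter fun χ => C.lam χ = w).card : ℂ) =
      ∑ χ, (1 + w ^ 2 * C.lam χ + w * conj (C.lam χ)) := by
  rw [← sum_boole, mul_sum]
  refine sum_congr rfl fun χ _ => ?_
  rw [C.conj_lam]
  split_ifs with h
  · rw [h]; linear_combination (-2 : ℂ) * hw
  · rw [mul_zero]
    have : (C.lam χ - w) * (w ^ 2 + w * C.lam χ + C.lam χ ^ 2) = 0 := by
      linear_combination C.hlam χ - hw
    have h2 := (mul_eq_zero.1 this).resolve_left (sub_ne_zero.2 h)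
    linear_combination -(w * h2) + (1 + w ^ 2 * C.lam χ + w * C.lam χ ^ 2) * 0 + hw

theorem triv_card {l : ℕ} (hl : C.P0.trace = (l : ℂ)) :
    (univ.filter fun χ => C.lam χ = 1).card = l + Fintype.card R := by
  have h := C.three_mul_card_filter 1 (one_pow 3)
  simp only [one_pow, one_mul, sum_add_distrib, sum_const, card_univ, nsmul_eq_mul, mul_one,
    ← map_sum, C.sum_lam, map_natCast] at h
  have hk := C.toData.card_eq hl (C.trace_eq.trans hl)
  rw [hk] at h
  have h2 : ((3 * (univ.filter fun χ => C.lam χ = 1).card : ℕ) : ℂ) =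
      ((3 * (l + Fintype.card R) : ℕ) : ℂ) := by
    push_cast at h ⊢; linear_combination h
  have h3 := Nat.cast_injective h2
  omega

theorem card_T [Nonempty R] {l : ℕ} (hl : C.P0.trace = (l : ℂ)) :
    l + Fintype.card R = C.T.card := by
  refine le_antisymm (C.toData.rank_le hl) ?_
  rw [← C.triv_card hl]
  exact card_le_card fun χ hχ => mem_filter.2 ⟨mem_univ _, C.lam_T χ hχ⟩

end CData

end H12.Extra27
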