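import Mathlib
import Cfsg.Agent.H27.ClassBasic

/-!
# Fusion in a group with Sylow `3`-subgroup `3^(1+2)` of exponent `3` and central centre
-/

set_option autoImplicit false
set_option linter.unusedSectionVars false

open Subgroup
open scoped Pointwise

namespace H12.Extra27

universe u

/-- The group data. -/
structure Fus (G : Type u) [Group G] [Finite G] where
  P : Sylow 3 G
  z : G
  h27 : Nat.card (P : Subgroup G) = 27
  hexp : ∀ x ∈ (P : Subgroup G), x ^ 3 = 1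
  hzP : z ∈ (P : Subgroup G)
  hz1 : z ≠ 1
  hzc : ∀ y ∈ (P : Subgroup G), z * y = y * z
  hcom : ∀ x ∈ (P : Subgroup G), ∀ y ∈ (P : Subgroup G), ∃ i : ℕ, x * y * x⁻¹ = y * z ^ i
  hcen : ∀ w ∈ (P : Subgroup G), (∀ y ∈ (P : Subgroup G), w * y = y * w) → w ∈ zpowers z
  hN : ∀ g ∈ normalizer ((P : Subgroup G) : Set G), g * z = z * g

namespace Fus

variable {G : Type u} [Group G] [Finite G] (F : Fus G)

/-- The Sylow subgroup as a subgroup. -/
abbrev S : Subgroup G := (F.P : Subgroup G)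

/-- Elements of the Sylow subgroup outside its centre. -/
def Out (x : G) : Prop := x ∈ F.S ∧ x ∉ zpowers F.z

/-- The subgroup generated by `x` and the centre. -/
def V (x : G) : Subgroup G := F.S ⊓ centralizer ({x} : Set G)

theorem z3 : F.z ^ 3 = 1 := F.hexp _ F.hzP

theorem orderOf_z : orderOf F.z = 3 := orderOf_eq_prime F.z3 F.hz1

theorem z_pow_mem (i : ℕ) : F.z ^ i ∈ F.S := pow_mem F.hzP i

theorem orderOf_out {x : G} (hx : F.Out x) : orderOf x = 3 :=
  orderOf_eq_prime (F.hexp _ hx.1) fun h => hx.2 (by rw [h]; exact one_mem _)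

theorem isPGroup_S : IsPGroup 3 F.S := F.P.2

theorem comm_z {y : G} (hy : y ∈ F.S) (i : ℕ) : F.z ^ i * y = y * F.z ^ i :=
  (Commute.pow_left (F.hzc y hy) i).eq

theorem z_pow_cases (i : ℕ) : F.z ^ i = 1 ∨ F.z ^ i = F.z ∨ F.z ^ i = F.z⁻¹ := by
  rw [← Nat.mod_add_div i 3, pow_add, pow_mul, F.z3, one_pow, mul_one]
  have h2 : F.z ^ 2 = F.z⁻¹ := eq_inv_of_mul_eq_one_left (by rw [← pow_succ]; exact F.z3)
  have : i % 3 < 3 := Nat.mod_lt _ (by norm_num)
  interval_cases i % 3 <;> simp [h2]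

theorem mem_zpowers_cases {w : G} (hw : w ∈ zpowers F.z) : w = 1 ∨ w = F.z ∨ w = F.z⁻¹ := by
  obtain ⟨i, rfl⟩ := (mem_powers_iff_mem_zpowers.2 hw :)
  exact F.z_pow_cases i

/-! ### The subgroups `V x` -/

theorem mem_V {x y : G} : y ∈ F.V x ↔ y ∈ F.S ∧ y * x = x * y := by
  rw [V, Subgroup.mem_inf, mem_centralizer_singleton_iff]

theorem z_mem_V {x : G} (hx : x ∈ F.S) : F.z ∈ F.V x := F.mem_V.2 ⟨F.hzP, F.hzc x hx⟩

theorem self_mem_V {x : G} (hx : x ∈ F.S) : x ∈ F.V x := F.mem_V.2 ⟨hx, rfl⟩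

theorem card_V {x : G} (hx : F.Out x) : Nat.card (F.V x) = 9 := by
  have hle : F.V x ≤ F.S := inf_le_left
  have hd : Nat.card (F.V x) ∣ 3 ^ 3 := by
    rw [show 3 ^ 3 = Nat.card F.S by rw [F.h27]; norm_num]
    exact card_dvd_of_le hle
  obtain ⟨k, hk, hc⟩ := (Nat.dvd_prime_pow Nat.prime_three).1 hd
  have h3 : zpowers F.z ≤ F.V x := zpowers_le.2 (F.z_mem_V hx.1)
  have hlt : Nat.card (zpowers F.z) < Nat.card (F.V x) := by
    refine lt_of_le_of_ne (card_le_of_le h3) fun h => hx.2 ?_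
    rw [eq_of_le_of_card_ge h3 h.ge]
    exact F.self_mem_V hx.1
  rw [Nat.card_zpowers, F.orderOf_z, hc] at hlt
  have hne : k ≠ 3 := by
    intro h
    apply hx.2
    refine F.hcen x hx.1 fun y hy => ?_
    have : F.V x = F.S := eq_of_le_of_card_ge hle (by rw [hc, h, F.h27]; norm_num)
    exact (F.mem_V.1 (this.symm ▸ hy : y ∈ F.V x)).2.symm
  interval_cases k <;> simp_all

theorem V_comm {x a b : G} (hx : F.Out x) (ha : a ∈ F.V x) (hb : b ∈ F.V x) : a * b = b * a := by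
  have hsub : ∀ w ∈ F.V x, ∃ i j : ℕ, w = x ^ i * F.z ^ j := by
    let f : Fin 3 × Fin 3 → F.V x := fun p =>
      ⟨x ^ (p.1 : ℕ) * F.z ^ (p.2 : ℕ),
        mul_mem (pow_mem (F.self_mem_V hx.1) _) (pow_mem (F.z_mem_V hx.1) _)⟩
    have hinj : Function.Injective f := by
      rintro ⟨i, j⟩ ⟨i', j'⟩ h
      have h1 : x ^ (i : ℕ) * F.z ^ (j : ℕ) = x ^ (i' : ℕ) * F.z ^ (j' : ℕ) :=
        congrArg Subtype.val h
      have hi : (i : ℕ) = i' := by
        by_contra hne
        have hxz : x ^ ((i : ℤ) - (i' : ℤ)) ∈ zpowers F.z := by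
          refine ⟨(j' : ℤ) - (j : ℤ), ?_⟩
          show F.z ^ ((j' : ℤ) - (j : ℤ)) = x ^ ((i : ℤ) - (i' : ℤ))
          rw [zpow_sub, zpow_sub, zpow_natCast, zpow_natCast, zpow_natCast, zpow_natCast]
          have hc : Commute (x ^ (i' : ℕ))⁻¹ (x ^ (i : ℕ)) :=
            ((Commute.refl x).pow_pow (i' : ℕ) (i : ℕ)).inv_left
          rw [← hc.eq, eq_inv_mul_iff_mul_eq, ← mul_assoc, ← h1, mul_inv_cancel_right]
        apply hx.2
        have h3 : (x ^ ((i : ℤ) - (i' : ℤ))) ^ ((i : ℤ) - (i' : ℤ)) = x := by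
          rw [← zpow_mul]
          have hd : (3 : ℤ) ∣ ((i : ℤ) - i') * ((i : ℤ) - i') - 1 := by
            have := i.isLt; have := i'.isLt
            have hne' : (i : ℤ) - i' ≠ 0 := by omega
            generalize hd : (i : ℤ) - i' = d at hne'
            have : -2 ≤ d ∧ d ≤ 2 := by omega
            obtain ⟨h4, h5⟩ := this
            interval_cases d <;> simp_all
          obtain ⟨t, ht⟩ := hd
          rw [show ((i : ℤ) - i') * ((i : ℤ) - i') = 3 * t + 1 by linarith, zpow_add, zpow_mul,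
            show ((3 : ℤ)) = ((3 : ℕ) : ℤ) by norm_num, zpow_natCast, F.hexp _ hx.1, one_zpow,
            one_mul, zpow_one]
        rw [← h3]
        exact zpow_mem hxz _
      have hj : (j : ℕ) = j' := by
        rw [hi, mul_right_inj] at h1
        exact pow_injOn_Iio_orderOf (by rw [Set.mem_Iio, F.orderOf_z]; exact j.isLt)
          (by rw [Set.mem_Iio, F.orderOf_z]; exact j'.isLt) h1
      exact Prod.ext (Fin.ext hi) (Fin.ext hj)
    haveI := Fintype.ofFinite (F.V x)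
    have hsurj : Function.Surjective f :=
      ((Fintype.bijective_iff_injective_and_card f).2 ⟨hinj, by
        rw [Fintype.card_eq_nat_card (α := F.V x), F.card_V hx]; rfl⟩).2
    intro w hw
    obtain ⟨⟨i, j⟩, hij⟩ := hsurj ⟨w, hw⟩
    exact ⟨i, j, (congrArg Subtype.val hij).symm⟩
  obtain ⟨i, j, rfl⟩ := hsub a ha
  have h1 : Commute (x ^ i) b := Commute.pow_left (F.mem_V.1 hb).2.symm i
  have h2 : Commute (F.z ^ j) b := F.comm_z (F.mem_V.1 hb).1 j
  exact (h1.mul_left h2).eq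

theorem V_le {x : G} (hx : F.Out x) {C : Subgroup G} (hzC : F.z ∈ C) (hxC : x ∈ C) :
    F.V x ≤ C := by
  have hle : F.V x ⊓ C ≤ F.V x := inf_le_left
  have h1 : zpowers F.z ≤ F.V x ⊓ C := zpowers_le.2 ⟨F.z_mem_V hx.1, hzC⟩
  have hlt : Nat.card (zpowers F.z) < Nat.card (F.V x ⊓ C : Subgroup G) :=
    lt_of_le_of_ne (card_le_of_le h1) fun e => hx.2 (by
      rw [eq_of_le_of_card_ge h1 e.ge]; exact ⟨F.self_mem_V hx.1, hxC⟩)
  rw [Nat.card_zpowers, F.orderOf_z] at hlt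
  have hd : Nat.card (F.V x ⊓ C : Subgroup G) ∣ 3 ^ 2 := by
    rw [show 3 ^ 2 = Nat.card (F.V x) by rw [F.card_V hx]; norm_num]
    exact card_dvd_of_le hle
  obtain ⟨k, hk, hc⟩ := (Nat.dvd_prime_pow Nat.prime_three).1 hd
  rw [hc] at hlt
  have : F.V x ⊓ C = F.V x := eq_of_le_of_card_ge hle (by
    rw [F.card_V hx, hc]; interval_cases k <;> simp_all)
  exact inf_eq_left.1 this

theorem V_eq_of_mem {x w : G} (hx : F.Out x) (hw : F.Out w) (h : w ∈ F.V x) : F.V w = F.V x := by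
  symm
  refine eq_of_le_of_card_ge (fun y hy => F.mem_V.2 ⟨(F.mem_V.1 hy).1, F.V_comm hx hy h⟩) ?_
  rw [F.card_V hx, F.card_V hw]

/-- A subgroup of the Sylow subgroup containing the centre is normalised by it. -/
theorem conj_mem_of_z {A : Subgroup G} (hA : A ≤ F.S) (hz : F.z ∈ A) {q a : G} (hq : q ∈ F.S)
    (ha : a ∈ A) : q * a * q⁻¹ ∈ A := by
  obtain ⟨i, hi⟩ := F.hcom q hq a (hA ha)
  rw [hi]
  exact mul_mem ha (pow_mem hz i)

/-- An element moving `x` by exactly the centre. -/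
theorem exists_shift {x : G} (hx : F.Out x) (i : ℕ) : ∃ a ∈ F.S, a * x * a⁻¹ = x * F.z ^ i := by
  obtain ⟨a, ha, hna⟩ : ∃ a ∈ F.S, a * x ≠ x * a := by
    by_contra h
    simp only [not_exists, not_and, not_not] at h
    exact hx.2 (F.hcen x hx.1 fun y hy => (h y hy).symm)
  obtain ⟨k, hk⟩ := F.hcom a ha x hx.1
  have hpow : ∀ n : ℕ, a ^ n * x * (a ^ n)⁻¹ = x * F.z ^ (k * n) := by
    intro n
    induction n with
    | zero => simp
    | succ n ih =>
      calc a ^ (n + 1) * x * (a ^ (n + 1))⁻¹ = a * (a ^ n * x * (a ^ n)⁻¹) * a⁻¹ := by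
            rw [pow_succ']; group
        _ = a * x * a⁻¹ * (a * F.z ^ (k * n) * a⁻¹) := by rw [ih]; group
        _ = x * F.z ^ (k * (n + 1)) := by
            rw [hk, ← F.comm_z ha, mul_inv_cancel_right, mul_assoc, ← pow_add]; ring_nf
  have hk3 : k % 3 ≠ 0 := by
    intro h0
    apply hna
    have h1 : F.z ^ k = 1 := by
      rw [← Nat.mod_add_div k 3, h0, zero_add, pow_mul, F.z3, one_pow]
    rw [h1, mul_one] at hk
    exact mul_inv_eq_iff_eq_mul.1 hk
  refine ⟨a ^ (k * i), pow_mem ha _, ?_⟩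
  rw [hpow]
  congr 1
  rw [← mul_assoc, pow_mul]
  congr 1
  conv_lhs => rw [← Nat.mod_add_div (k * k) 3, pow_add, pow_mul, F.z3, one_pow, mul_one]
  have : k * k % 3 = 1 := by
    rw [Nat.mul_mod]
    have : k % 3 < 3 := Nat.mod_lt _ (by norm_num)
    interval_cases k % 3 <;> simp_all
  rw [this, pow_one]

/-! ### Correcting by centralisers -/

/-- If the conjugate of the Sylow subgroup acts on `A` as it does, a centraliser of `A` corrects. -/
theorem exists_fix (A : Set G) (hA : ∀ q ∈ F.S, ∀ a ∈ A, q * a * q⁻¹ ∈ A) {g : G}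
    (hg : ∀ q ∈ F.S, ∃ q' ∈ F.S, ∀ a ∈ A, (g * q * g⁻¹) * a * (g * q * g⁻¹)⁻¹ = q' * a * q'⁻¹) :
    ∃ c : G, (∀ a ∈ A, c * a = a * c) ∧ c * g ∈ normalizer (F.S : Set G) := by
  classical
  have hnorm : ∀ q ∈ F.S, ∀ c, c ∈ centralizer A → q * c * q⁻¹ ∈ centralizer A := by
    intro q hq c hc a ha
    have h1 := hA q⁻¹ (inv_mem hq) a ha
    rw [inv_inv] at h1
    have h2 : q⁻¹ * a * q * c = c * (q⁻¹ * a * q) := hc _ h1
    calc a * (q * c * q⁻¹) = q * (q⁻¹ * a * q * c) * q⁻¹ := by group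
      _ = q * (c * (q⁻¹ * a * q)) * q⁻¹ := by rw [h2]
      _ = q * c * q⁻¹ * a := by group
  have hPn : F.S ≤ normalizer ((centralizer A : Subgroup G) : Set G) := by
    intro q hq
    rw [mem_normalizer_iff]
    refine fun c => ⟨hnorm q hq c, fun h => ?_⟩
    have := hnorm q⁻¹ (inv_mem hq) _ h
    simpa [mul_assoc] using this
  set K := F.S ⊔ centralizer A with hK
  have hmem : ∀ k ∈ K, ∃ q ∈ F.S, ∃ c ∈ centralizer A, k = q * c := by
    intro k hk
    have : (k : G) ∈ ((F.S : Set G) * (centralizer A : Set G)) := by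
      rw [← coe_mul_of_left_le_normalizer_right _ _ hPn]
      exact hk
    obtain ⟨q, hq, c, hc, rfl⟩ := this
    exact ⟨q, hq, c, hc, rfl⟩
  have hgK : (g • F.P : Sylow 3 G).1 ≤ K := by
    rw [Sylow.coe_subgroup_smul]
    rintro _ ⟨q, hq, rfl⟩
    obtain ⟨q', hq', h⟩ := hg q hq
    have hc : q'⁻¹ * (g * q * g⁻¹) ∈ centralizer A := by
      intro a ha
      have e := h a ha
      calc a * (q'⁻¹ * (g * q * g⁻¹)) = q'⁻¹ * (q' * a * q'⁻¹) * (g * q * g⁻¹) := by group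
        _ = q'⁻¹ * ((g * q * g⁻¹) * a * (g * q * g⁻¹)⁻¹) * (g * q * g⁻¹) := by rw [e]
        _ = q'⁻¹ * (g * q * g⁻¹) * a := by group
    have : (g * q * g⁻¹) = q' * (q'⁻¹ * (g * q * g⁻¹)) := by group
    show g * q * g⁻¹ ∈ K
    rw [this]
    exact mul_mem (mem_sup_left hq') (mem_sup_right hc)
  haveI : Fact (Nat.Prime 3) := ⟨Nat.prime_three⟩
  obtain ⟨k, hk⟩ := MulAction.exists_smul_eq K ((g • F.P).subtype hgK)
    (F.P.subtype (le_sup_left : F.S ≤ K))
  rw [Sylow.smul_subtype] at hk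
  have hk2 : ((k : G) * g) • F.P = F.P := by
    rw [mul_smul]
    exact Sylow.subtype_injective hk
  obtain ⟨q, hq, c, hc, e⟩ := hmem k k.2
  refine ⟨c, fun a ha => (hc a ha).symm, ?_⟩
  have h1 : (k : G) * g ∈ normalizer (F.S : Set G) := Sylow.smul_eq_iff_mem_normalizer.1 hk2
  have h2 := mul_mem (inv_mem (le_normalizer hq)) h1
  rwa [e, mul_assoc q, inv_mul_cancel_left] at h2

/-! ### Weak closure of the centre -/

theorem conj_z {g : G} (h : g * F.z * g⁻¹ ∈ F.S) : g * F.z * g⁻¹ = F.z := by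
  haveI : Fact (Nat.Prime 3) := ⟨Nat.prime_three⟩
  set w := g * F.z * g⁻¹ with hw
  have hgP : (g • F.P : Sylow 3 G).1 ≤ centralizer ({w} : Set G) := by
    rw [Sylow.coe_subgroup_smul]
    rintro _ ⟨q, hq, rfl⟩
    rw [mem_centralizer_singleton_iff]
    show g * q * g⁻¹ * w = w * (g * q * g⁻¹)
    rw [hw]
    calc g * q * g⁻¹ * (g * F.z * g⁻¹) = g * (q * F.z) * g⁻¹ := by group
      _ = g * (F.z * q) * g⁻¹ := by rw [F.hzc q hq]
      _ = g * F.z * g⁻¹ * (g * q * g⁻¹) := by group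
  by_cases hwz : w ∈ zpowers F.z
  · have hP : F.S ≤ centralizer ({w} : Set G) := by
      intro q hq
      rw [mem_centralizer_singleton_iff]
      rcases F.mem_zpowers_cases hwz with h1 | h1 | h1 <;> rw [h1]
      · simp
      · exact (F.hzc q hq).symm
      · exact (Commute.inv_left (show Commute F.z q from F.hzc q hq)).eq.symm
    obtain ⟨c, hc⟩ := MulAction.exists_smul_eq (centralizer ({w} : Set G))
      ((g • F.P).subtype hgP) (F.P.subtype hP)
    rw [Sylow.smul_subtype] at hc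
    have hn : (c : G) * g ∈ normalizer (F.S : Set G) := by
      apply Sylow.smul_eq_iff_mem_normalizer.1
      rw [mul_smul]
      exact Sylow.subtype_injective hc
    have e := F.hN _ hn
    have hcw : (c : G) * w = w * c := mem_centralizer_singleton_iff.1 c.2
    calc w = (c : G) * w * (c : G)⁻¹ := eq_mul_inv_of_mul_eq hcw.symm
      _ = (c : G) * (g * F.z * g⁻¹) * (c : G)⁻¹ := rfl
      _ = ((c : G) * g) * F.z * ((c : G) * g)⁻¹ := by group
      _ = F.z := by rw [e]; group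
  · exfalso
    have hwo : F.Out w := ⟨h, hwz⟩
    obtain ⟨R, hR⟩ := ((F.isPGroup_S.to_le (inf_le_left : F.V w ≤ F.S)).comap_of_injective
      (centralizer ({w} : Set G)).subtype Subtype.val_injective).exists_le_sylow
    obtain ⟨c, hc⟩ := MulAction.exists_smul_eq (centralizer ({w} : Set G)) ((g • F.P).subtype hgP) R
    rw [Sylow.smul_subtype] at hc
    set g' := (c : G) * g with hg'
    have hcw : (c : G) * w = w * c := mem_centralizer_singleton_iff.1 c.2
    have hg'z : g' * F.z * g'⁻¹ = w := by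
      calc g' * F.z * g'⁻¹ = (c : G) * (g * F.z * g⁻¹) * (c : G)⁻¹ := by rw [hg']; group
        _ = (c : G) * w * (c : G)⁻¹ := rfl
        _ = w := mul_inv_eq_of_eq_mul hcw
    have hVle : ∀ y ∈ F.V w, g'⁻¹ * y * g' ∈ F.S := by
      intro y hy
      have hy1 : y ∈ centralizer ({w} : Set G) :=
        mem_centralizer_singleton_iff.2 (F.mem_V.1 hy).2
      have h2 : (⟨y, hy1⟩ : centralizer ({w} : Set G)) ∈ R := hR hy
      rw [← hc] at h2
      change y ∈ ((c : G) • (g • F.P) : Sylow 3 G) at h2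
      rw [← mul_smul, ← hg'] at h2
      replace h2 : y ∈ ((g' • F.P : Sylow 3 G) : Subgroup G) := h2
      rw [Sylow.coe_subgroup_smul] at h2
      obtain ⟨q, hq, e⟩ := h2
      rw [← e]
      show g'⁻¹ * (g' * q * g'⁻¹) * g' ∈ F.S
      rwa [show g'⁻¹ * (g' * q * g'⁻¹) * g' = q by group]
    -- the first transvection
    obtain ⟨a, ha, haw⟩ := F.exists_shift hwo 1
    rw [pow_one] at haw
    -- the second transvection
    set v := g'⁻¹ * F.z * g' with hv
    have hvo : F.Out v := by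
      refine ⟨hVle _ (F.z_mem_V h), fun hvz => hwz ?_⟩
      have e : g' * v * g'⁻¹ = F.z := by rw [hv]; group
      rcases F.mem_zpowers_cases hvz with h1 | h1 | h1 <;> rw [h1] at e
      · exact absurd (by rw [← e]; group) F.hz1
      · rw [hg'z] at e
        rw [e]
        exact mem_zpowers _
      · have e2 : w⁻¹ = F.z := by rw [← e, ← hg'z]; group
        rw [← inv_inv w, e2]
        exact inv_mem (mem_zpowers _)
    obtain ⟨a', ha', hav⟩ := F.exists_shift hvo 1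
    rw [pow_one] at hav
    set b := g' * a' * g'⁻¹ with hb
    have hbz : b * F.z * b⁻¹ = F.z * w := by
      calc b * F.z * b⁻¹ = g' * (a' * v * a'⁻¹) * g'⁻¹ := by rw [hb, hv]; group
        _ = (g' * v * g'⁻¹) * (g' * F.z * g'⁻¹) := by rw [hav]; group
        _ = F.z * w := by rw [hg'z, hv]; group
    have hbw : b * w * b⁻¹ = w := by
      calc b * w * b⁻¹ = g' * (a' * F.z * a'⁻¹) * g'⁻¹ := by rw [hb, ← hg'z]; group
        _ = w := by rw [← F.hzc a' ha', mul_inv_cancel_right, hg'z]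
    have haz : a * F.z * a⁻¹ = F.z := by rw [← F.hzc a ha, mul_inv_cancel_right]
    have hwzc : F.z * w = w * F.z := F.hzc w h
    have hbiw : b⁻¹ * w * b = w := by
      calc b⁻¹ * w * b = b⁻¹ * (b * w * b⁻¹) * b := by rw [hbw]
        _ = w := by group
    have hbiz : b⁻¹ * F.z * b = F.z * w⁻¹ := by
      calc b⁻¹ * F.z * b = b⁻¹ * (b * F.z * b⁻¹) * b * (b⁻¹ * w * b)⁻¹ := by rw [hbz]; group
        _ = F.z * w⁻¹ := by rw [hbiw]; group
    set n₁ := a * b⁻¹ * a with hn1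
    have h1z : n₁ * F.z * n₁⁻¹ = w⁻¹ := by
      calc n₁ * F.z * n₁⁻¹ = a * (b⁻¹ * (a * F.z * a⁻¹) * b) * a⁻¹ := by rw [hn1]; group
        _ = a * (F.z * w⁻¹) * a⁻¹ := by rw [haz, hbiz]
        _ = (a * F.z * a⁻¹) * (a * w * a⁻¹)⁻¹ := by group
        _ = F.z * (F.z⁻¹ * w⁻¹) := by rw [haz, haw]; group
        _ = w⁻¹ := by group
    have h1w : n₁ * w * n₁⁻¹ = F.z := by
      calc n₁ * w * n₁⁻¹ = a * (b⁻¹ * (a * w * a⁻¹) * b) * a⁻¹ := by rw [hn1]; group
        _ = a * ((b⁻¹ * w * b) * (b⁻¹ * F.z * b)) * a⁻¹ := by rw [haw]; group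
        _ = a * (w * (F.z * w⁻¹)) * a⁻¹ := by rw [hbiw, hbiz]
        _ = a * F.z * a⁻¹ := by rw [← mul_assoc w, ← hwzc, mul_inv_cancel_right]
        _ = F.z := haz
    set n := n₁ * n₁ with hn
    have hnz : n * F.z * n⁻¹ = F.z⁻¹ := by
      calc n * F.z * n⁻¹ = n₁ * (n₁ * F.z * n₁⁻¹) * n₁⁻¹ := by rw [hn]; group
        _ = (n₁ * w * n₁⁻¹)⁻¹ := by rw [h1z]; group
        _ = F.z⁻¹ := by rw [h1w]
    have hnw : n * w * n⁻¹ = w⁻¹ := by
      calc n * w * n⁻¹ = n₁ * (n₁ * w * n₁⁻¹) * n₁⁻¹ := by rw [hn]; group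
        _ = w⁻¹ := by rw [h1w, h1z]
    have hinv : ∀ y ∈ F.V w, n * y * n⁻¹ = y⁻¹ := by
      let C : Subgroup G :=
        { carrier := {y | y ∈ F.V w ∧ n * y * n⁻¹ = y⁻¹}
          mul_mem' := fun {a b} ha hb => ⟨mul_mem ha.1 hb.1, by
            calc n * (a * b) * n⁻¹ = (n * a * n⁻¹) * (n * b * n⁻¹) := by group
              _ = (b * a)⁻¹ := by rw [ha.2, hb.2]; group
              _ = (a * b)⁻¹ := by rw [F.V_comm hwo ha.1 hb.1]⟩
          one_mem' := ⟨one_mem _, by group⟩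
          inv_mem' := fun {a} ha => ⟨inv_mem ha.1, by
            calc n * a⁻¹ * n⁻¹ = (n * a * n⁻¹)⁻¹ := by group
              _ = a⁻¹⁻¹ := by rw [ha.2]⟩ }
      have hCV : F.V w ≤ C := F.V_le hwo ⟨F.z_mem_V h, hnz⟩ ⟨F.self_mem_V h, hnw⟩
      exact fun y hy => (hCV hy).2
    obtain ⟨c', hc', hn'⟩ := F.exists_fix (F.V w : Set G)
      (fun q hq y hy => F.conj_mem_of_z inf_le_left (F.z_mem_V h) hq hy) (g := n) (fun q hq => by
        refine ⟨q, hq, fun x (hxV : x ∈ F.V w) => ?_⟩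
        have hqx : q * x * q⁻¹ ∈ F.V w := F.conj_mem_of_z inf_le_left (F.z_mem_V h) hq hxV
        calc (n * q * n⁻¹) * x * (n * q * n⁻¹)⁻¹ = n * (q * (n⁻¹ * x * n) * q⁻¹) * n⁻¹ := by group
          _ = n * (q * x * q⁻¹)⁻¹ * n⁻¹ := by
              rw [show n⁻¹ * x * n = x⁻¹ by
                have := hinv x⁻¹ (inv_mem hxV)
                rw [inv_inv] at this
                calc n⁻¹ * x * n = n⁻¹ * (n * x⁻¹ * n⁻¹) * n := by rw [this]
                  _ = x⁻¹ := by group]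
              group
          _ = q * x * q⁻¹ := by rw [hinv _ (inv_mem hqx), inv_inv])
    have e := F.hN _ hn'
    have hcz : c' * F.z = F.z * c' := hc' _ (F.z_mem_V h)
    have : c' * n * F.z * (c' * n)⁻¹ = F.z⁻¹ := by
      calc c' * n * F.z * (c' * n)⁻¹ = c' * (n * F.z * n⁻¹) * c'⁻¹ := by group
        _ = (c' * F.z * c'⁻¹)⁻¹ := by rw [hnz]; group
        _ = F.z⁻¹ := by rw [hcz, mul_inv_cancel_right]
    rw [e, mul_inv_cancel_right] at this
    have h2 : F.z ^ 2 = 1 := by rw [pow_two]; nth_rw 2 [this]; exact mul_inv_cancel _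
    have h3 := F.z3
    rw [pow_succ, h2, one_mul] at h3
    exact F.hz1 h3

theorem conj_z_pow {g w : G} (hw : w ∈ zpowers F.z) (h : g * w * g⁻¹ ∈ F.S) :
    g * w * g⁻¹ = w := by
  rcases F.mem_zpowers_cases hw with rfl | rfl | rfl
  · group
  · exact F.conj_z h
  · have h2 : g * F.z * g⁻¹ ∈ F.S := by
      have := inv_mem h
      simpa [mul_assoc] using this
    calc g * F.z⁻¹ * g⁻¹ = (g * F.z * g⁻¹)⁻¹ := by group
      _ = F.z⁻¹ := by rw [F.conj_z h2]

theorem out_conj {x : G} (hx : F.Out x) {g : G} (h : g * x * g⁻¹ ∈ F.S) :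
    F.Out (g * x * g⁻¹) := by
  refine ⟨h, fun hz => hx.2 ?_⟩
  have e : g⁻¹ * (g * x * g⁻¹) * g⁻¹⁻¹ = x := by group
  have := F.conj_z_pow hz (g := g⁻¹) (by rw [e]; exact hx.1)
  rw [e] at this
  rwa [← this] at hz

theorem not_isConj_out {x : G} (hx : F.Out x) {w : G} (hw : w ∈ zpowers F.z) : ¬ IsConj x w := by
  intro h
  obtain ⟨g, hg⟩ := isConj_iff.1 h
  have := F.out_conj hx (g := g) (by rw [hg]; exact zpowers_le.2 F.hzP hw)
  rw [hg] at this
  exact this.2 hw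

/-- The centraliser of an outer element has Sylow subgroup `V x`. -/
theorem sylow_centralizer {x : G} (hx : F.Out x) :
    ∃ R : Sylow 3 (centralizer ({x} : Set G)),
      (R : Subgroup (centralizer ({x} : Set G))) = (F.V x).subgroupOf (centralizer ({x} : Set G)) := by
  haveI : Fact (Nat.Prime 3) := ⟨Nat.prime_three⟩
  set C := centralizer ({x} : Set G) with hC
  have hVC : F.V x ≤ C := inf_le_right
  obtain ⟨R, hR⟩ := ((F.isPGroup_S.to_le (inf_le_left : F.V x ≤ F.S)).comap_of_injective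
    C.subtype Subtype.val_injective).exists_le_sylow
  refine ⟨R, (le_antisymm hR ?_).symm⟩
  set R' : Subgroup G := (R : Subgroup C).map C.subtype with hR'
  have hR'p : IsPGroup 3 R' := R.2.map _
  obtain ⟨Q, hQ⟩ := hR'p.exists_le_sylow
  obtain ⟨g, rfl⟩ := MulAction.exists_smul_eq G F.P Q
  have hVR : F.V x ≤ R' := fun y hy => ⟨⟨y, hVC hy⟩, hR (by exact hy), rfl⟩
  have hcard : Nat.card R' ∣ 3 ^ 3 := by
    refine (card_dvd_of_le hQ).trans (dvd_of_eq ?_)
    rw [Sylow.coe_subgroup_smul]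
    rw [show 3 ^ 3 = Nat.card F.S by rw [F.h27]; norm_num]
    exact Nat.card_congr (Subgroup.equivSMul (MulAut.conj g) F.S).toEquiv.symm
  obtain ⟨k, hk, hc⟩ := (Nat.dvd_prime_pow Nat.prime_three).1 hcard
  by_cases hk3 : k = 3
  · exfalso
    subst hk3
    have hRQ : R' = ((g • F.P : Sylow 3 G) : Subgroup G) := by
      refine eq_of_le_of_card_ge hQ ?_
      rw [hc, Sylow.coe_subgroup_smul]
      rw [show 3 ^ 3 = Nat.card F.S by rw [F.h27]; norm_num]
      exact le_of_eq (Nat.card_congr (Subgroup.equivSMul (MulAut.conj g) F.S).toEquiv.symm)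
    have hxR : x ∈ R' := hVR (F.self_mem_V hx.1)
    rw [hRQ, Sylow.coe_subgroup_smul] at hxR
    obtain ⟨v, hv, hvx⟩ := hxR
    change g * v * g⁻¹ = x at hvx
    have hvz : v ∈ zpowers F.z := by
      refine F.hcen v hv fun y hy => ?_
      have hy' : g * y * g⁻¹ ∈ R' := by
        rw [hRQ, Sylow.coe_subgroup_smul]
        exact ⟨y, hy, rfl⟩
      obtain ⟨r, -, hr⟩ := hy'
      have hc2 : (g * y * g⁻¹) * x = x * (g * y * g⁻¹) := by
        rw [← hr]; exact mem_centralizer_singleton_iff.1 r.2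
      calc v * y = g⁻¹ * ((g * v * g⁻¹) * (g * y * g⁻¹)) * g := by group
        _ = g⁻¹ * (x * (g * y * g⁻¹)) * g := by rw [hvx]
        _ = g⁻¹ * ((g * y * g⁻¹) * x) * g := by rw [hc2]
        _ = g⁻¹ * ((g * y * g⁻¹) * (g * v * g⁻¹)) * g := by rw [hvx]
        _ = y * v := by group
    exact F.not_isConj_out hx hvz ((isConj_iff.2 ⟨g, hvx⟩).symm)
  · intro r hr
    have hr' : (r : G) ∈ R' := ⟨r, hr, rfl⟩
    have : R' = F.V x := by
      refine (eq_of_le_of_card_ge hVR ?_).symm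
      rw [F.card_V hx, hc]
      interval_cases k <;> simp_all
    rw [this] at hr'
    exact hr'

/-- The centraliser of an outer element has a normal `3`-complement. -/
theorem complement_centralizer {x : G} (hx : F.Out x) :
    Cfsg.HasNormalPComplement 3 (centralizer ({x} : Set G)) := by
  haveI : Fact (Nat.Prime 3) := ⟨Nat.prime_three⟩
  obtain ⟨R, hR⟩ := F.sylow_centralizer hx
  refine H27.hasNormalPComplement_of_normalizer_le R fun n hn r hr => ?_
  rw [hR] at hn hr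
  have hmem : ∀ w ∈ F.V x, (n : G) * w * (n : G)⁻¹ ∈ F.V x := by
    intro w hw
    have := (mem_normalizer_iff.1 hn (⟨w, (inf_le_right : F.V x ≤ _) hw⟩)).1 hw
    exact this
  have hnx : (n : G) * x = x * n := mem_centralizer_singleton_iff.1 n.2
  have hnz : (n : G) * F.z = F.z * n := by
    have := F.conj_z (F.mem_V.1 (hmem _ (F.z_mem_V hx.1))).1
    exact mul_inv_eq_iff_eq_mul.1 this
  have hle : F.V x ≤ centralizer ({(n : G)} : Set G) :=
    F.V_le hx (mem_centralizer_singleton_iff.2 hnz.symm) (mem_centralizer_singleton_iff.2 hnx.symm)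
  exact Subtype.ext (mem_centralizer_singleton_iff.1 (hle hr))

/-- Outer elements conjugate in the group are conjugate in the Sylow normaliser. -/
theorem fusion {x y : G} (hx : F.Out x) (hy : y ∈ F.S) (h : IsConj x y) :
    ∃ n ∈ normalizer (F.S : Set G), n * x * n⁻¹ = y := by
  haveI : Fact (Nat.Prime 3) := ⟨Nat.prime_three⟩
  obtain ⟨g, rfl⟩ := isConj_iff.1 h
  set y := g * x * g⁻¹ with hydef
  have hyo : F.Out y := F.out_conj hx hy
  set C := centralizer ({y} : Set G) with hC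
  obtain ⟨R, hR⟩ := F.sylow_centralizer hyo
  have hgV : (F.V x).map (MulAut.conj g).toMonoidHom ≤ C := by
    rintro _ ⟨w, hw, rfl⟩
    refine mem_centralizer_singleton_iff.2 ?_
    show g * w * g⁻¹ * (g * x * g⁻¹) = g * x * g⁻¹ * (g * w * g⁻¹)
    calc g * w * g⁻¹ * (g * x * g⁻¹) = g * (w * x) * g⁻¹ := by group
      _ = g * (x * w) * g⁻¹ := by rw [(F.mem_V.1 hw).2]
      _ = _ := by group
  obtain ⟨Q, hQ⟩ := (((F.isPGroup_S.to_le (inf_le_left : F.V x ≤ F.S)).map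
    (MulAut.conj g).toMonoidHom).comap_of_injective C.subtype
      Subtype.val_injective).exists_le_sylow
  obtain ⟨c, hc⟩ := MulAction.exists_smul_eq C Q R
  have hcy : (c : G) * y = y * c := mem_centralizer_singleton_iff.1 c.2
  set h' := (c : G) * g with hh'
  have hxy : h' * x * h'⁻¹ = y := by
    calc h' * x * h'⁻¹ = (c : G) * (g * x * g⁻¹) * (c : G)⁻¹ := by rw [hh']; group
      _ = (c : G) * y * (c : G)⁻¹ := rfl
      _ = y := mul_inv_eq_of_eq_mul hcy
  have hV : ∀ w ∈ F.V x, h' * w * h'⁻¹ ∈ F.V y := by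
    intro w hw
    have h1 : (⟨g * w * g⁻¹, hgV ⟨w, hw, rfl⟩⟩ : C) ∈ Q := hQ ⟨w, hw, rfl⟩
    have h2 : c * ⟨g * w * g⁻¹, hgV ⟨w, hw, rfl⟩⟩ * c⁻¹ ∈ ((c • Q : Sylow 3 C) : Subgroup C) := by
      rw [Sylow.coe_subgroup_smul]
      exact ⟨_, h1, rfl⟩
    rw [hc, hR] at h2
    have h3 : (c : G) * (g * w * g⁻¹) * (c : G)⁻¹ ∈ F.V y := h2
    rwa [show h' * w * h'⁻¹ = (c : G) * (g * w * g⁻¹) * (c : G)⁻¹ by rw [hh']; group]
  have hz : h' * F.z * h'⁻¹ = F.z := F.conj_z (hV _ (F.z_mem_V hx.1)).1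
  have hfix : ∀ q ∈ F.S, ∃ q' ∈ F.S, ∀ a ∈ (F.V y : Set G),
      (h' * q * h'⁻¹) * a * (h' * q * h'⁻¹)⁻¹ = q' * a * q'⁻¹ := by
    intro q hq
    obtain ⟨i, hi⟩ := F.hcom q hq x hx.1
    obtain ⟨q', hq', hqy⟩ := F.exists_shift hyo i
    refine ⟨q', hq', ?_⟩
    let D : Subgroup G :=
      { carrier := {a | (h' * q * h'⁻¹) * a * (h' * q * h'⁻¹)⁻¹ = q' * a * q'⁻¹}
        mul_mem' := fun {a b} ha hb => by
          simp only [Set.mem_setOf_eq] at ha hb ⊢
          calc h' * q * h'⁻¹ * (a * b) * (h' * q * h'⁻¹)⁻¹ =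
              (h' * q * h'⁻¹ * a * (h' * q * h'⁻¹)⁻¹) *
                (h' * q * h'⁻¹ * b * (h' * q * h'⁻¹)⁻¹) := by group
            _ = _ := by rw [ha, hb]; group
        one_mem' := by simp
        inv_mem' := fun {a} ha => by
          simp only [Set.mem_setOf_eq] at ha ⊢
          calc h' * q * h'⁻¹ * a⁻¹ * (h' * q * h'⁻¹)⁻¹ =
              (h' * q * h'⁻¹ * a * (h' * q * h'⁻¹)⁻¹)⁻¹ := by group
            _ = _ := by rw [ha]; group }
    have hzD : F.z ∈ D := by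
      show (h' * q * h'⁻¹) * F.z * (h' * q * h'⁻¹)⁻¹ = q' * F.z * q'⁻¹
      rw [← F.hzc q' hq', mul_inv_cancel_right]
      calc (h' * q * h'⁻¹) * F.z * (h' * q * h'⁻¹)⁻¹ = h' * (q * (h'⁻¹ * F.z * h') * q⁻¹) * h'⁻¹ := by
            group
        _ = h' * (q * F.z * q⁻¹) * h'⁻¹ := by
            rw [show h'⁻¹ * F.z * h' = F.z by
              calc h'⁻¹ * F.z * h' = h'⁻¹ * (h' * F.z * h'⁻¹) * h' := by rw [hz]
                _ = F.z := by group]
        _ = F.z := by rw [← F.hzc q hq, mul_inv_cancel_right, hz]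
    have hyD : y ∈ D := by
      show (h' * q * h'⁻¹) * y * (h' * q * h'⁻¹)⁻¹ = q' * y * q'⁻¹
      rw [hqy]
      calc (h' * q * h'⁻¹) * y * (h' * q * h'⁻¹)⁻¹ = h' * (q * (h'⁻¹ * y * h') * q⁻¹) * h'⁻¹ := by
            group
        _ = h' * (q * x * q⁻¹) * h'⁻¹ := by
            rw [show h'⁻¹ * y * h' = x by rw [← hxy]; group]
        _ = (h' * x * h'⁻¹) * (h' * F.z * h'⁻¹) ^ i := by rw [hi, conj_pow]; group
        _ = y * F.z ^ i := by rw [hxy, hz]
    exact fun a ha => F.V_le hyo hzD hyD ha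
  obtain ⟨c', hc', hn⟩ := F.exists_fix (F.V y : Set G)
    (fun q hq a ha => F.conj_mem_of_z inf_le_left (F.z_mem_V hy) hq ha) hfix
  refine ⟨c' * h', hn, ?_⟩
  calc c' * h' * x * (c' * h')⁻¹ = c' * (h' * x * h'⁻¹) * c'⁻¹ := by group
    _ = y := by rw [hxy]; exact mul_inv_eq_of_eq_mul (hc' y (F.self_mem_V hy))

/-! ### The inertial quotient -/

/-- The elements of the normaliser inducing inner automorphisms of the Sylow subgroup. -/
def Q : Subgroup G := F.S ⊔ centralizer (F.S : Set G)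

/-- The inertial index. -/
noncomputable def e : ℕ := F.Q.relIndex (normalizer (F.S : Set G))

theorem centralizer_le : centralizer (F.S : Set G) ≤ normalizer (F.S : Set G) := by
  intro c hc
  rw [mem_normalizer_iff]
  intro w
  constructor
  · intro hw
    have h1 := hc w hw
    rwa [← h1, mul_inv_cancel_right]
  · intro hw
    have h1 := hc _ hw
    have h2 : w = c * w * c⁻¹ := by
      calc w = c⁻¹ * ((c * w * c⁻¹) * c) := by group
        _ = c⁻¹ * (c * (c * w * c⁻¹)) := by rw [h1]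
        _ = c * w * c⁻¹ := by group
    rwa [← h2] at hw

theorem Q_le : F.Q ≤ normalizer (F.S : Set G) := sup_le le_normalizer F.centralizer_le

theorem S_le_Q : F.S ≤ F.Q := le_sup_left

theorem conj_S {n : G} (hn : n ∈ normalizer (F.S : Set G)) {w : G} (hw : w ∈ F.S) :
    n * w * n⁻¹ ∈ F.S := (mem_normalizer_iff.1 hn w).1 hw

theorem conj_Q {n : G} (hn : n ∈ normalizer (F.S : Set G)) {q : G} (hq : q ∈ F.Q) :
    n * q * n⁻¹ ∈ F.Q := by
  have : F.Q ≤ F.Q.comap (MulAut.conj n).toMonoidHom := by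
    refine sup_le (fun w hw => le_sup_left (α := Subgroup G) (F.conj_S hn hw)) fun c hc =>
      le_sup_right (α := Subgroup G) ?_
    intro w hw
    show w * (n * c * n⁻¹) = n * c * n⁻¹ * w
    have h1 := hc (n⁻¹ * w * n⁻¹⁻¹) (F.conj_S (inv_mem hn) hw)
    calc w * (n * c * n⁻¹) = n * ((n⁻¹ * w * n⁻¹⁻¹) * c) * n⁻¹ := by group
      _ = n * (c * (n⁻¹ * w * n⁻¹⁻¹)) * n⁻¹ := by rw [h1]
      _ = n * c * n⁻¹ * w := by group
  exact this hq

theorem e_pos : 0 < F.e := Nat.pos_of_ne_zero Subgroup.index_ne_zero_of_finite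

theorem not_three_dvd_e : ¬ 3 ∣ F.e := by
  intro h
  haveI : Fact (Nat.Prime 3) := ⟨Nat.prime_three⟩
  have h1 : F.e ∣ F.Q.index := relIndex_dvd_index_of_le F.Q_le
  have h2 : F.Q.index ∣ F.S.index := index_dvd_of_le F.S_le_Q
  exact F.P.not_dvd_index (h.trans (h1.trans h2))

/-- The action of an inner element on an outer one. -/
theorem Q_shift {q : G} (hq : q ∈ F.Q) {x : G} (hx : x ∈ F.S) :
    ∃ i : ℕ, q * x * q⁻¹ = x * F.z ^ i := by
  let D : Subgroup G :=
    { carrier := {q | q ∈ normalizer (F.S : Set G) ∧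
        ∀ x ∈ F.S, ∃ i : ℕ, q * x * q⁻¹ = x * F.z ^ i}
      mul_mem' := fun {a b} ha hb => ⟨mul_mem ha.1 hb.1, fun x hx => by
        obtain ⟨i, hi⟩ := hb.2 x hx
        obtain ⟨j, hj⟩ := ha.2 x hx
        refine ⟨j + i, ?_⟩
        calc a * b * x * (a * b)⁻¹ = (a * x * a⁻¹) * (a * F.z ^ i * a⁻¹) := by
              rw [← mul_inv_cancel_right x b] at hi ⊢
              calc a * b * (x * b * b⁻¹) * (a * b)⁻¹ = a * (b * (x * b * b⁻¹) * b⁻¹) * a⁻¹ := by group
                _ = _ := by rw [hi]; group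
          _ = x * F.z ^ (j + i) := by
              rw [hj, (Commute.pow_right (F.hN a ha.1 : Commute a F.z) i).eq,
                mul_inv_cancel_right, pow_add, mul_assoc]⟩
      one_mem' := ⟨one_mem _, fun x hx => ⟨0, by simp⟩⟩
      inv_mem' := fun {a} ha => ⟨inv_mem ha.1, fun x hx => by
        have hx' : a⁻¹ * x * a⁻¹⁻¹ ∈ F.S := F.conj_S (inv_mem ha.1) hx
        obtain ⟨i, hi⟩ := ha.2 _ hx'
        refine ⟨2 * i, ?_⟩
        have h3 : F.z ^ i * F.z ^ (2 * i) = 1 := by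
          rw [← pow_add, show i + 2 * i = 3 * i by ring, pow_mul, F.z3, one_pow]
        calc a⁻¹ * x * a⁻¹⁻¹ = (a⁻¹ * x * a⁻¹⁻¹) * (F.z ^ i * F.z ^ (2 * i)) := by rw [h3, mul_one]
          _ = (a * (a⁻¹ * x * a⁻¹⁻¹) * a⁻¹) * F.z ^ (2 * i) := by rw [hi]; simp only [mul_assoc]
          _ = x * F.z ^ (2 * i) := by group⟩ }
  have : F.Q ≤ D := by
    refine sup_le (fun s hs => ⟨le_normalizer hs, fun x hx => F.hcom s hs x hx⟩) fun c hc =>
      ⟨F.centralizer_le hc, fun x hx => ⟨0, ?_⟩⟩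
    rw [pow_zero, mul_one, ← hc x hx, mul_inv_cancel_right]
  exact (this hq).2 x hx

/-- An element of the normaliser fixing an outer element modulo the centre is inner. -/
theorem mem_Q_of_fix {x : G} (hx : F.Out x) {n : G} (hn : n ∈ normalizer (F.S : Set G))
    (h : ∃ i : ℕ, n * x * n⁻¹ = x * F.z ^ i) : n ∈ F.Q := by
  obtain ⟨i, hi⟩ := h
  obtain ⟨y, hy, hyV⟩ : ∃ y ∈ F.S, y ∉ F.V x := by
    by_contra hh
    simp only [not_exists, not_and, not_not] at hh
    have := card_le_of_le (hh : F.S ≤ F.V x)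
    rw [F.card_V hx, F.h27] at this
    omega
  have hy' : n * y * n⁻¹ ∈ F.S := F.conj_S hn hy
  have hnz : n * F.z * n⁻¹ = F.z := by rw [F.hN n hn, mul_inv_cancel_right]
  obtain ⟨v, hv, hvy⟩ : ∃ v ∈ F.V x, n * y * n⁻¹ = y * v := by
    refine ⟨y⁻¹ * (n * y * n⁻¹), F.mem_V.2 ⟨mul_mem (inv_mem hy) hy', ?_⟩, by group⟩
    obtain ⟨k, hk⟩ := F.hcom x hx.1 y hy
    have h1 : x * (n * y * n⁻¹) * x⁻¹ = (n * y * n⁻¹) * F.z ^ k := by
      calc x * (n * y * n⁻¹) * x⁻¹ =
          (x * F.z ^ i) * (n * y * n⁻¹) * (x * F.z ^ i)⁻¹ := by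
            rw [mul_assoc x (F.z ^ i), F.comm_z hy' i]; group
        _ = n * (x * y * x⁻¹) * n⁻¹ := by rw [← hi]; group
        _ = (n * y * n⁻¹) * (n * F.z * n⁻¹) ^ k := by rw [hk, conj_pow]; group
        _ = (n * y * n⁻¹) * F.z ^ k := by rw [hnz]
    symm
    calc x * (y⁻¹ * (n * y * n⁻¹)) = (x * y * x⁻¹)⁻¹ * (x * (n * y * n⁻¹) * x⁻¹) * x := by group
      _ = (y * F.z ^ k)⁻¹ * ((n * y * n⁻¹) * F.z ^ k) * x := by rw [hk, h1]
      _ = y⁻¹ * (n * y * n⁻¹) * x := by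
          rw [← F.comm_z hy k, ← F.comm_z hy' k]; group
  -- the cube fixes both generators modulo the centre
  obtain ⟨j, hj⟩ : ∃ j : ℕ, n * v * n⁻¹ = v * F.z ^ j := by
    let D : Subgroup G :=
      { carrier := {w | w ∈ F.V x ∧ ∃ j : ℕ, n * w * n⁻¹ = w * F.z ^ j}
        mul_mem' := fun {a b} ha hb => ⟨mul_mem ha.1 hb.1, by
          obtain ⟨ja, hja⟩ := ha.2
          obtain ⟨jb, hjb⟩ := hb.2
          refine ⟨ja + jb, ?_⟩
          calc n * (a * b) * n⁻¹ = (n * a * n⁻¹) * (n * b * n⁻¹) := by group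
            _ = a * (F.z ^ ja * b) * F.z ^ jb := by rw [hja, hjb]; group
            _ = a * b * F.z ^ (ja + jb) := by rw [F.comm_z hb.1.1 ja, pow_add]; group⟩
        one_mem' := ⟨one_mem _, 0, by simp⟩
        inv_mem' := fun {a} ha => ⟨inv_mem ha.1, by
          obtain ⟨ja, hja⟩ := ha.2
          refine ⟨2 * ja, ?_⟩
          have h3 : F.z ^ ja * F.z ^ (2 * ja) = 1 := by
            rw [← pow_add, show ja + 2 * ja = 3 * ja by ring, pow_mul, F.z3, one_pow]
          calc n * a⁻¹ * n⁻¹ = (n * a * n⁻¹)⁻¹ := by group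
            _ = (F.z ^ ja)⁻¹ * a⁻¹ := by rw [hja, mul_inv_rev]
            _ = F.z ^ (2 * ja) * a⁻¹ := by rw [inv_eq_of_mul_eq_one_right h3]
            _ = a⁻¹ * F.z ^ (2 * ja) := F.comm_z (inv_mem ha.1.1) _⟩ }
    have : F.V x ≤ D := F.V_le hx ⟨F.z_mem_V hx.1, 0, by rw [hnz]; simp⟩
      ⟨F.self_mem_V hx.1, i, hi⟩
    exact (this hv).2
  have hstep : ∀ m : ℕ, ∀ w : G, ∀ t : ℕ, n * w * n⁻¹ = w * F.z ^ t →
      n ^ m * w * (n ^ m)⁻¹ = w * F.z ^ (t * m) := by
    intro m w t ht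
    induction m with
    | zero => simp
    | succ m ih =>
      calc n ^ (m + 1) * w * (n ^ (m + 1))⁻¹ = n * (n ^ m * w * (n ^ m)⁻¹) * n⁻¹ := by
            rw [pow_succ']; group
        _ = (n * w * n⁻¹) * (n * F.z * n⁻¹) ^ (t * m) := by rw [ih, conj_pow]; group
        _ = w * F.z ^ (t * (m + 1)) := by rw [ht, hnz, mul_assoc, ← pow_add]; ring_nf
  have h3z : ∀ t, F.z ^ (t * 3) = 1 := fun t => by rw [mul_comm, pow_mul, F.z3, one_pow]
  have hy3 : n ^ 3 * y * (n ^ 3)⁻¹ = y := by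
    have hzj : n * F.z ^ j * n⁻¹ = F.z ^ j := by rw [← conj_pow, hnz]
    have e2 : n * (y * v) * n⁻¹ = y * v * (v * F.z ^ j) := by
      calc n * (y * v) * n⁻¹ = (n * y * n⁻¹) * (n * v * n⁻¹) := by group
        _ = y * v * (v * F.z ^ j) := by rw [hvy, hj]
    have e3 : n * (y * v * (v * F.z ^ j)) * n⁻¹ = y * v * (v * F.z ^ j) * ((v * F.z ^ j) * F.z ^ j) := by
      calc n * (y * v * (v * F.z ^ j)) * n⁻¹ =
          (n * y * n⁻¹) * (n * v * n⁻¹) * ((n * v * n⁻¹) * (n * F.z ^ j * n⁻¹)) := by group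
        _ = _ := by rw [hvy, hj, hzj]
    calc n ^ 3 * y * (n ^ 3)⁻¹ = n * (n * (n * y * n⁻¹) * n⁻¹) * n⁻¹ := by simp only [pow_succ, pow_zero, one_mul]; group
      _ = y * v * (v * F.z ^ j) * ((v * F.z ^ j) * F.z ^ j) := by rw [hvy, e2, e3]
      _ = y * v * v * (F.z ^ j * v) * (F.z ^ j * F.z ^ j) := by group
      _ = y * v * v * (v * F.z ^ j) * (F.z ^ j * F.z ^ j) := by rw [F.comm_z hv.1]
      _ = y * (v ^ 3 * F.z ^ (j * 3)) := by simp only [pow_succ, pow_zero, one_mul]; group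
      _ = y := by rw [h3z, F.hexp v hv.1, mul_one, mul_one]
  have hx3 : n ^ 3 * x * (n ^ 3)⁻¹ = x := by rw [hstep 3 x i hi, h3z, mul_one]
  have hC : n ^ 3 ∈ centralizer (F.S : Set G) := by
    have hsub : F.S ≤ centralizer ({n ^ 3} : Set G) := by
      have hz' : F.z ∈ centralizer ({n ^ 3} : Set G) := mem_centralizer_singleton_iff.2
        ((Commute.pow_left (F.hN n hn : Commute n F.z) 3).eq.symm)
      have hx' : x ∈ centralizer ({n ^ 3} : Set G) := mem_centralizer_singleton_iff.2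
        (mul_inv_eq_iff_eq_mul.1 hx3).symm
      have hy'' : y ∈ centralizer ({n ^ 3} : Set G) := mem_centralizer_singleton_iff.2
        (mul_inv_eq_iff_eq_mul.1 hy3).symm
      have hA : F.V x < F.S ⊓ centralizer ({n ^ 3} : Set G) :=
        lt_of_le_of_ne (le_inf inf_le_left (F.V_le hx hz' hx')) fun e =>
          hyV (e ▸ ⟨hy, hy''⟩)
      have hd : Nat.card (F.S ⊓ centralizer ({n ^ 3} : Set G) : Subgroup G) ∣ 3 ^ 3 := by
        rw [show 3 ^ 3 = Nat.card F.S by rw [F.h27]; norm_num]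
        exact card_dvd_of_le inf_le_left
      obtain ⟨k, hk, hc⟩ := (Nat.dvd_prime_pow Nat.prime_three).1 hd
      have hlt : Nat.card (F.V x) < 3 ^ k := by
        rw [← hc]
        refine lt_of_le_of_ne (card_le_of_le hA.le) fun e => hA.ne ?_
        exact eq_of_le_of_card_ge hA.le e.ge
      rw [F.card_V hx] at hlt
      have : F.S ⊓ centralizer ({n ^ 3} : Set G) = F.S := eq_of_le_of_card_ge inf_le_left (by
        rw [F.h27, hc]; interval_cases k <;> simp_all)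
      exact inf_eq_left.1 this
    exact fun w hw => mem_centralizer_singleton_iff.1 (hsub hw)
  -- the index is prime to three
  haveI : (F.Q.subgroupOf (normalizer (F.S : Set G))).Normal :=
    ⟨fun q hq m => F.conj_Q m.2 hq⟩
  have hne : n ^ F.e ∈ F.Q := by
    have := Subgroup.pow_index_mem (F.Q.subgroupOf (normalizer (F.S : Set G)))
      (⟨n, hn⟩ : normalizer (F.S : Set G))
    exact this
  have hn3 : n ^ 3 ∈ F.Q := le_sup_right (α := Subgroup G) hC
  have hcop : Nat.gcd 3 F.e = 1 := (Nat.prime_three.coprime_iff_not_dvd).2 F.not_three_dvd_e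
  have hbez := Nat.gcd_eq_gcd_ab 3 F.e
  rw [hcop] at hbez
  have : n = (n ^ 3) ^ (Nat.gcdA 3 F.e) * (n ^ F.e) ^ (Nat.gcdB 3 F.e) := by
    rw [← zpow_natCast n 3, ← zpow_natCast n F.e, ← zpow_mul, ← zpow_mul, ← zpow_add,
      ← hbez]
    simp
  rw [this]
  exact mul_mem (zpow_mem hn3 _) (zpow_mem hne _)

/-! ### Counting the classes -/

/-- The outer elements conjugate to `x`. -/
theorem card_class {x : G} (hx : F.Out x) :
    Nat.card {y : G // y ∈ F.S ∧ IsConj x y} = 3 * F.e := by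
  set N := normalizer (F.S : Set G) with hN
  have key : ∀ L : Subgroup G, L ≤ N →
      Nat.card {y : G // ∃ n ∈ L, n * x * n⁻¹ = y} = (centralizer ({x} : Set G)).relIndex L := by
    intro L _
    rw [Subgroup.relIndex, Subgroup.index]
    refine (Nat.card_congr (Equiv.ofBijective
      (Quotient.lift (fun n : L => (⟨(n : G) * x * (n : G)⁻¹, n, n.2, rfl⟩ :
        {y : G // ∃ n ∈ L, n * x * n⁻¹ = y})) ?_) ⟨?_, ?_⟩)).symm
    · intro a b hab
      have h := QuotientGroup.leftRel_apply.1 hab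
      have h' : ((a : G)⁻¹ * b) * x = x * ((a : G)⁻¹ * b) :=
        mem_centralizer_singleton_iff.1 h
      refine Subtype.ext ?_
      show (a : G) * x * (a : G)⁻¹ = (b : G) * x * (b : G)⁻¹
      calc (a : G) * x * (a : G)⁻¹ = (a : G) * (x * ((a : G)⁻¹ * b)) * (b : G)⁻¹ := by group
        _ = (a : G) * (((a : G)⁻¹ * b) * x) * (b : G)⁻¹ := by rw [h']
        _ = _ := by group
    · intro a b
      induction a using Quotient.inductionOn with
      | h a =>
      induction b using Quotient.inductionOn with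
      | h b =>
      intro hab
      have hab' : (a : G) * x * (a : G)⁻¹ = (b : G) * x * (b : G)⁻¹ := congrArg Subtype.val hab
      refine Quotient.sound (QuotientGroup.leftRel_apply.2 ?_)
      show (a⁻¹ * b : L) ∈ (centralizer ({x} : Set G)).subgroupOf L
      rw [mem_subgroupOf, mem_centralizer_singleton_iff]
      push_cast
      calc (a : G)⁻¹ * b * x = (a : G)⁻¹ * ((b : G) * x * (b : G)⁻¹) * b := by group
        _ = (a : G)⁻¹ * ((a : G) * x * (a : G)⁻¹) * b := by rw [hab']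
        _ = x * ((a : G)⁻¹ * b) := by group
    · rintro ⟨y, n, hn, rfl⟩
      exact ⟨Quotient.mk _ ⟨n, hn⟩, rfl⟩
  have h1 : Nat.card {y : G // y ∈ F.S ∧ IsConj x y} =
      Nat.card {y : G // ∃ n ∈ N, n * x * n⁻¹ = y} :=
    Nat.card_congr (Equiv.subtypeEquivRight fun y =>
      ⟨fun h => F.fusion hx h.1 h.2, fun ⟨n, hn, h⟩ =>
        ⟨h ▸ F.conj_S hn hx.1, isConj_iff.2 ⟨n, h⟩⟩⟩)
  have h3 : Nat.card {y : G // ∃ n ∈ F.Q, n * x * n⁻¹ = y} = 3 := by
    let f : Fin 3 → {y : G // ∃ n ∈ F.Q, n * x * n⁻¹ = y} := fun i =>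
      ⟨x * F.z ^ (i : ℕ), by
        obtain ⟨a, ha, h⟩ := F.exists_shift hx i
        exact ⟨a, F.S_le_Q ha, h⟩⟩
    have hf : Function.Bijective f := by
      refine ⟨fun i j h => ?_, fun y => ?_⟩
      · have := mul_left_cancel (congrArg Subtype.val h : x * F.z ^ (i : ℕ) = x * F.z ^ (j : ℕ))
        exact Fin.ext (pow_injOn_Iio_orderOf (by rw [Set.mem_Iio, F.orderOf_z]; exact i.isLt)
          (by rw [Set.mem_Iio, F.orderOf_z]; exact j.isLt) this)
      · obtain ⟨n, hn, h⟩ := y.2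
        obtain ⟨i, hi⟩ := F.Q_shift hn hx.1
        refine ⟨⟨i % 3, Nat.mod_lt _ (by norm_num)⟩, Subtype.ext ?_⟩
        show x * F.z ^ (i % 3) = (y : G)
        rw [← h, hi]
        conv_rhs => rw [← Nat.mod_add_div i 3, pow_add, pow_mul, F.z3, one_pow, mul_one]
    rw [← Nat.card_eq_of_bijective f hf, Nat.card_fin]
  rw [h1, key N le_rfl, ← h3, key F.Q F.Q_le, e,
    ← inf_relIndex_right (centralizer ({x} : Set G)) F.Q,
    relIndex_mul_relIndex _ _ _ inf_le_right F.Q_le,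
    ← inf_relIndex_right (centralizer ({x} : Set G)) N]
  congr 1
  refine le_antisymm (fun n hn => ⟨hn.1, F.mem_Q_of_fix hx hn.2 ⟨0, ?_⟩⟩)
    (inf_le_inf_left _ F.Q_le)
  rw [pow_zero, mul_one, mem_centralizer_singleton_iff.1 hn.1, mul_inv_cancel_right]

open Classical in
theorem card_out [Fintype G] : (Finset.univ.filter fun x : G => F.Out x).card = 24 := by
  have h1 : (Finset.univ.filter fun x : G => F.Out x) =
      (Finset.univ.filter fun x : G => x ∈ F.S) \ (Finset.univ.filter fun x : G => x ∈ zpowers F.z) := by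
    ext x
    simp only [Finset.mem_filter, Finset.mem_univ, true_and, Finset.mem_sdiff]
    rfl
  rw [h1, Finset.card_sdiff_of_subset, ← Fintype.card_subtype, ← Fintype.card_subtype,
    Fintype.card_eq_nat_card, Fintype.card_eq_nat_card]
  · have a := F.h27
    have b : Nat.card (zpowers F.z) = 3 := by rw [Nat.card_zpowers, F.orderOf_z]
    change Nat.card F.S - Nat.card (zpowers F.z) = 24
    rw [a, b]
  · intro x hx
    simp only [Finset.mem_filter, Finset.mem_univ, true_and] at hx ⊢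
    exact zpowers_le.2 F.hzP hx

open Classical in
theorem exists_reps : ∃ R : Finset G, (∀ x ∈ R, F.Out x) ∧
    (∀ x ∈ R, ∀ y ∈ R, IsConj x y → x = y) ∧
    (∀ y, F.Out y → ∃ x ∈ R, IsConj x y) ∧ R.card * F.e = 8 := by
  haveI := Fintype.ofFinite G
  set O := Finset.univ.filter fun x : G => F.Out x with hO
  set K := O.image ConjClasses.mk with hK
  have hc : ∀ k ∈ K, ∃ x, F.Out x ∧ ConjClasses.mk x = k := fun k hk => by
    obtain ⟨x, hx, h⟩ := Finset.mem_image.1 hk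
    exact ⟨x, (Finset.mem_filter.1 hx).2, h⟩
  choose r hr1 hr2 using hc
  refine ⟨K.attach.image fun k => r k.1 k.2, ?_, ?_, ?_, ?_⟩
  · intro x hx
    obtain ⟨k, -, rfl⟩ := Finset.mem_image.1 hx
    exact hr1 _ _
  · intro x hx y hy h
    obtain ⟨k, -, rfl⟩ := Finset.mem_image.1 hx
    obtain ⟨k', -, rfl⟩ := Finset.mem_image.1 hy
    have := ConjClasses.mk_eq_mk_iff_isConj.2 h
    rw [hr2, hr2] at this
    obtain rfl : k = k' := Subtype.ext this
    rfl
  · intro y hy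
    have hk : ConjClasses.mk y ∈ K := Finset.mem_image_of_mem _ (by simp [hO, hy])
    exact ⟨_, Finset.mem_image.2 ⟨⟨_, hk⟩, Finset.mem_attach _ _, rfl⟩,
      ConjClasses.mk_eq_mk_iff_isConj.1 (hr2 _ hk)⟩
  · rw [Finset.card_image_of_injective _ (fun k k' h => Subtype.ext (by
      rw [← hr2 k.1 k.2, ← hr2 k'.1 k'.2]; exact congrArg ConjClasses.mk h)), Finset.card_attach]
    have h24 := F.card_out
    rw [Finset.card_eq_sum_card_image ConjClasses.mk] at h24
    have hfib : ∀ k ∈ K, (O.filter fun x => ConjClasses.mk x = k).card = 3 * F.e := by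
      intro k hk
      have hx := hr1 k hk
      rw [← F.card_class hx, Nat.card_eq_fintype_card, Fintype.card_subtype]
      congr 1
      ext y
      simp only [hO, Finset.mem_filter, Finset.mem_univ, true_and]
      refine ⟨fun h => ⟨h.1.1, ConjClasses.mk_eq_mk_iff_isConj.1 ((hr2 k hk).trans h.2.symm)⟩,
        fun h => ⟨?_, (ConjClasses.mk_eq_mk_iff_isConj.2 h.2).symm.trans (hr2 k hk)⟩⟩
      obtain ⟨g, rfl⟩ := isConj_iff.1 h.2
      exact F.out_conj hx h.1
    rw [Finset.sum_congr rfl hfib, Finset.sum_const, smul_eq_mul] at h24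
    linarith

/-- With an even inertial index outer elements are real. -/
theorem isConj_inv (he : 2 ∣ F.e) {x : G} (hx : F.Out x) : IsConj x x⁻¹ := by
  set N := normalizer (F.S : Set G)
  haveI : (F.Q.subgroupOf N).Normal := ⟨fun q hq m => F.conj_Q m.2 hq⟩
  haveI : Fact (Nat.Prime 2) := ⟨Nat.prime_two⟩
  obtain ⟨a, ha⟩ := exists_prime_orderOf_dvd_card' (G := N ⧸ F.Q.subgroupOf N) 2 (by
    rwa [← Subgroup.index_eq_card])
  obtain ⟨⟨n, hn⟩, rfl⟩ := QuotientGroup.mk_surjective a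
  have hnQ : n ∉ F.Q := fun h => by
    rw [(QuotientGroup.eq_one_iff _).2 (by exact h), orderOf_one] at ha
    omega
  have hn2 : n ^ 2 ∈ F.Q := by
    have := pow_orderOf_eq_one ((⟨n, hn⟩ : N) : N ⧸ F.Q.subgroupOf N)
    rw [ha, ← QuotientGroup.mk_pow, QuotientGroup.eq_one_iff] at this
    exact this
  set x' := n * x * n⁻¹ with hx'def
  have hx'S : x' ∈ F.S := F.conj_S hn hx.1
  obtain ⟨k, hk⟩ := F.Q_shift hn2 hx.1
  have hx'2 : n * x' * n⁻¹ = x * F.z ^ k := by rw [← hk, hx'def, pow_two]; group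
  obtain ⟨l, hl⟩ := F.hcom x hx.1 x' hx'S
  have hu : x * x' ∈ zpowers F.z := by
    by_contra hu
    apply hnQ
    refine F.mem_Q_of_fix ⟨mul_mem hx.1 hx'S, hu⟩ hn ⟨k + 2 * l, ?_⟩
    have h3 : F.z ^ l * F.z ^ (2 * l) = 1 := by
      rw [← pow_add, show l + 2 * l = 3 * l by ring, pow_mul, F.z3, one_pow]
    calc n * (x * x') * n⁻¹ = x' * (n * x' * n⁻¹) := by rw [hx'def]; group
      _ = x' * x * F.z ^ k := by rw [hx'2, ← mul_assoc]
      _ = x' * (F.z ^ l * F.z ^ (2 * l)) * x * F.z ^ k := by rw [h3, mul_one]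
      _ = x' * F.z ^ l * (F.z ^ (2 * l) * x) * F.z ^ k := by group
      _ = x * x' * x⁻¹ * (x * F.z ^ (2 * l)) * F.z ^ k := by rw [hl, F.comm_z hx.1]
      _ = x * x' * (F.z ^ (2 * l) * F.z ^ k) := by group
      _ = x * x' * F.z ^ (k + 2 * l) := by rw [← pow_add, add_comm]
  obtain ⟨s, hs⟩ := (mem_powers_iff_mem_zpowers.2 hu :)
  have hinv : F.Out x⁻¹ := ⟨inv_mem hx.1, fun h => hx.2 (inv_mem_iff.1 h)⟩
  obtain ⟨a', -, ha'⟩ := F.exists_shift hinv s
  refine (isConj_iff.2 ⟨n, rfl⟩ : IsConj x x').trans ((isConj_iff.2 ⟨a', ?_⟩ : IsConj x⁻¹ x').symm)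
  change F.z ^ s = x * x' at hs
  rw [ha', hs]
  group

/-- Every `3`-element is conjugate to a power of `z` or to an outer element. -/
theorem exists_conj {g : G} (h : ∃ k : ℕ, orderOf g = 3 ^ k) :
    ∃ w ∈ F.S, IsConj g w ∧ (w ∈ zpowers F.z ∨ F.Out w) := by
  haveI : Fact (Nat.Prime 3) := ⟨Nat.prime_three⟩
  obtain ⟨k, hk⟩ := h
  have hp : IsPGroup 3 (zpowers g) := IsPGroup.of_card (by rw [Nat.card_zpowers, hk])
  obtain ⟨Q, hQ⟩ := hp.exists_le_sylow
  obtain ⟨a, ha⟩ := MulAction.exists_smul_eq G Q F.P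
  have hw : a * g * a⁻¹ ∈ F.S := by
    rw [Fus.S, ← ha, Sylow.coe_subgroup_smul]
    exact ⟨g, hQ (mem_zpowers g), rfl⟩
  refine ⟨_, hw, isConj_iff.2 ⟨a, rfl⟩, ?_⟩
  by_cases hz : a * g * a⁻¹ ∈ zpowers F.z
  · exact Or.inl hz
  · exact Or.inr ⟨hw, hz⟩

end Fus

end H12.Extra27
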