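import Cfsg.Agent.H12.Extra27.Build
import Cfsg.Prelude.Def_Transfer

/-!
# The principal `3`-block with defect group `3^(1+2)` and central fusion
-/

set_option autoImplicit false
set_option linter.unusedSectionVars false
set_option linter.style.haveILetI false

open Cfsg Finset
open scoped ComplexConjugate Classical commutatorElement

namespace H12.Extra27

universe u

variable {G : Type u} [Group G] [Fintype G] [h3f : Fact (Nat.Prime 3)] {M : Ideal AlgInt}
  [M.IsPrime]

local notation "C[" x "]" => (Subgroup.centralizer ({x} : Set _))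

omit [Fintype G] in
theorem exists_fus [Finite G] (P : Sylow 3 G) (hE : IsExtraspecial 3 ↥(P : Subgroup G))
    (h27 : Nat.card ↥(P : Subgroup G) = 27) (hexp : ∀ x ∈ (P : Subgroup G), x ^ 3 = 1)
    (hNC : ∀ g ∈ Subgroup.normalizer ((P : Subgroup G) : Set G), ∀ z ∈ (P : Subgroup G),
      (∀ y ∈ (P : Subgroup G), z * y = y * z) → g * z = z * g) :
    ∃ F : Fus G, F.P = P := by
  obtain ⟨⟨-, -, hcomm⟩, hc3⟩ := hE
  obtain ⟨z, hz⟩ : ∃ z : Subgroup.center ↥(P : Subgroup G), z ≠ 1 := by
    haveI : Nontrivial (Subgroup.center ↥(P : Subgroup G)) :=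
      Finite.one_lt_card_iff_nontrivial.1 (by rw [hc3]; norm_num)
    exact exists_ne 1
  have hzc : ∀ y ∈ (P : Subgroup G), ((z : ↥(P : Subgroup G)) : G) * y =
      y * ((z : ↥(P : Subgroup G)) : G) := fun y hy =>
    congrArg Subtype.val (Subgroup.mem_center_iff.1 z.2 ⟨y, hy⟩).symm
  have hgen : ∀ c : ↥(P : Subgroup G), c ∈ Subgroup.center ↥(P : Subgroup G) →
      (c : G) ∈ Subgroup.zpowers ((z : ↥(P : Subgroup G)) : G) := by
    intro c hc
    have : (⟨c, hc⟩ : Subgroup.center ↥(P : Subgroup G)) ∈ Subgroup.zpowers z :=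
      mem_zpowers_of_prime_card hc3 hz
    obtain ⟨i, hi⟩ := this
    refine ⟨i, ?_⟩
    have := congrArg (fun w : Subgroup.center ↥(P : Subgroup G) => ((w : ↥(P : Subgroup G)) : G)) hi
    simpa using this
  refine ⟨{
    P := P
    z := ((z : ↥(P : Subgroup G)) : G)
    h27 := h27
    hexp := hexp
    hzP := SetLike.coe_mem _
    hz1 := fun h => hz (Subtype.ext (Subtype.ext h))
    hzc := hzc
    hcom := ?_
    hcen := ?_
    hN := fun g hg => hNC g hg _ (SetLike.coe_mem _) hzc }, rfl⟩
  · intro x hx y hy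
    have hc : ⁅(⟨x, hx⟩ : ↥(P : Subgroup G)), (⟨y, hy⟩ : ↥(P : Subgroup G))⁆ ∈
        Subgroup.center ↥(P : Subgroup G) := by
      rw [← hcomm]
      exact Subgroup.commutator_mem_commutator (Subgroup.mem_top _) (Subgroup.mem_top _)
    obtain ⟨i, hi⟩ := (mem_powers_iff_mem_zpowers.2 (hgen _ hc) :)
    refine ⟨i, ?_⟩
    change ((z : ↥(P : Subgroup G)) : G) ^ i = x * y * x⁻¹ * y⁻¹ at hi
    rw [← (Commute.pow_left (hzc y hy : Commute _ y) i).eq, hi]
    group
  · intro w hw hwc
    exact hgen ⟨w, hw⟩ (Subgroup.mem_center_iff.2 fun y => Subtype.ext (hwc y y.2).symm)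

namespace Fus

variable (F : Fus G)

theorem S_le_C : F.S ≤ C[F.z] := fun y hy =>
  Subgroup.mem_centralizer_singleton_iff.2 (F.hzc y hy).symm

/-- The data in the centralizer of the centre. -/
noncomputable def res : Fus ↥(C[F.z] : Subgroup G) where
  P := F.P.subtype F.S_le_C
  z := ⟨F.z, F.S_le_C F.hzP⟩
  h27 := by
    rw [Sylow.coe_subtype, Nat.card_congr (Subgroup.subgroupOfEquivOfLe F.S_le_C).toEquiv, F.h27]
  hexp x hx := Subtype.ext (F.hexp x hx)
  hzP := F.hzP
  hz1 h := F.hz1 (congrArg Subtype.val h)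
  hzc y hy := Subtype.ext (F.hzc y hy)
  hcom x hx y hy := (F.hcom x hx y hy).imp fun i hi => Subtype.ext (by simpa using hi)
  hcen w hw h := by
    obtain ⟨i, hi⟩ := F.hcen w hw fun y hy => congrArg Subtype.val (h ⟨y, F.S_le_C hy⟩ hy)
    exact ⟨i, Subtype.ext (by simpa using hi)⟩
  hN g _ := Subtype.ext (Subgroup.mem_centralizer_singleton_iff.1 g.2)

theorem res_out_iff (x : ↥(C[F.z] : Subgroup G)) : F.res.Out x ↔ F.Out (x : G) := by
  refine and_congr Iff.rfl (not_congr ⟨?_, ?_⟩)
  · rintro ⟨i, hi⟩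
    exact ⟨i, by simpa [res] using congrArg Subtype.val hi⟩
  · rintro ⟨i, hi⟩
    exact ⟨i, Subtype.ext (by simpa [res] using hi)⟩

/-- Conjugate outer elements are conjugate in the centralizer of the centre. -/
theorem isConj_res {x y : ↥(C[F.z] : Subgroup G)} (hx : F.Out (x : G)) (hy : (y : G) ∈ F.S)
    (h : IsConj (x : G) (y : G)) : IsConj x y := by
  obtain ⟨n, hn, e⟩ := F.fusion hx hy h
  exact isConj_iff.2 ⟨⟨n, Subgroup.mem_centralizer_singleton_iff.2 (F.hN n hn)⟩, Subtype.ext e⟩

/-- Representatives in the centralizer of the centre. -/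
noncomputable def resReps (Rp : F.Reps) : F.res.Reps where
  R := Rp.R.subtype (fun x => x ∈ (C[F.z] : Subgroup G))
  out x hx := (F.res_out_iff x).2 (Rp.out _ (Finset.mem_subtype.1 hx))
  inj x hx y hy h := Subtype.ext (Rp.inj _ (Finset.mem_subtype.1 hx) _ (Finset.mem_subtype.1 hy)
    ((C[F.z] : Subgroup G).subtype.map_isConj h))
  cover y hy := by
    obtain ⟨x, hx, h⟩ := Rp.cover _ ((F.res_out_iff y).1 hy)
    exact ⟨⟨x, F.S_le_C (Rp.out x hx).1⟩, Finset.mem_subtype.2 hx,
      F.isConj_res (Rp.out x hx) hy.1 h⟩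

theorem card_resReps (Rp : F.Reps) : (F.resReps Rp).R.card = Rp.R.card := by
  rw [resReps, ← Finset.card_map (Function.Embedding.subtype _), Finset.subtype_map,
    Finset.filter_true_of_mem fun x hx => F.S_le_C (Rp.out x hx).1]

theorem res_isConj_inv {x : ↥(C[F.z] : Subgroup G)} (he : 2 ∣ F.e) (hx : F.Out (x : G)) :
    IsConj x x⁻¹ :=
  F.isConj_res hx (inv_mem hx.1) (F.isConj_inv he hx)

end Fus

/-- The data in the centralizer of the centre. -/
theorem exists_cdata (hM : IsPModular 3 M) (F : Fus G) (hc : F.z ∈ Subgroup.center G)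
    (Rp : F.Reps) :
    ∃ C : CData (Idx M G) Rp.R, C.T = heightZero M G ∧
      (∀ r χ, C.c r χ = (χ.1 : G → ℂ) (r : G)) ∧
      C.P0.trace = (blockRank 3 (principalBlock M G) : ℂ) := by
  obtain ⟨D, hT, -, hcc, hP0, hP1⟩ := exists_data (M := M) hM F Rp
  refine ⟨{ D with
    lam := fun χ => (χ.1 : G → ℂ) F.z / (χ.1 : G → ℂ) 1
    hlam := fun χ => ?_
    hP1 := fun χ ψ => ?_
    hlamc := fun r χ h => ?_ }, hT, hcc, by rw [hP0, trace_P0 hM]⟩
  · have h := H19.MajorBound.eps_pow_orderOf hc χ.1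
    rwa [F.orderOf_z] at h
  · rw [hP1, hP0, Matrix.of_apply, Matrix.of_apply, sec_central hc F.pel_z]
  · rw [hcc] at h
    obtain ⟨a, -, ha⟩ := F.exists_shift (Rp.out r r.2) 1
    have h1 := H12.irr_isClassFunction χ.1 (r : G) a
    rw [ha, pow_one, Subgroup.mem_center_iff.1 hc (r : G)] at h1
    rw [H21.apply_central_mul χ.1 hc] at h1
    exact (mul_eq_right₀ h).1 h1

/-- The count of height zero characters from the number of classes. -/
theorem card_T_cases (hM : IsPModular 3 M) (F : Fus G) (Rp : F.Reps) (D : Data (Idx M G) Rp.R)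
    (hT : D.T = heightZero M G) (hc : ∀ r χ, D.c r χ = (χ.1 : G → ℂ) (r : G))
    (hreal : Rp.R.card ≠ 8 → ∀ x ∈ Rp.R, IsConj x x⁻¹) :
    (Rp.R.card = 8 → D.T.card = 9) ∧ (Rp.R.card = 4 → D.T.card = 6) ∧
      (Rp.R.card = 2 → D.T.card = 6) ∧
      (Rp.R.card = 1 → D.T.card = 6 ∨ (D.T.card = 9 ∧ ∀ {l lz : ℕ}, D.P0.trace = (l : ℂ) →
        D.P1.trace = (lz : ℂ) → lz ≤ 4)) := by
  have hcard : Fintype.card Rp.R = Rp.R.card := Fintype.card_coe _
  refine ⟨fun h => D.card_T_of_eight (hcard.trans h), fun h => ?_, fun h => ?_, fun h => ?_⟩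
  · obtain ⟨A⟩ := exists_rat hM F Rp (hreal (by omega)) D hT hc
    exact Data.card_T_of_four A (hcard.trans h)
  · obtain ⟨A⟩ := exists_rat hM F Rp (hreal (by omega)) D hT hc
    exact Data.card_T_of_two A (hcard.trans h)
  · obtain ⟨A⟩ := exists_rat hM F Rp (hreal (by omega)) D hT hc
    have h3 : D.T.card ≠ 3 := by
      intro h3
      have hz : (H25.HeightTwoThree.zeroSet 3 M G).card = 3 := by
        refine Eq.trans ?_ h3
        rw [hT, ← H25.HeightTwoThree.natCard_eq_card, ← natCard_heightZero]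
        refine Nat.card_congr (Equiv.subtypeEquivRight fun χ => and_congr_right fun hχ => ?_)
        rw [← H22.not_dvd_mdeg_iff hχ, H22.mdeg, H22.blockExp_principalBlock, pow_zero,
          Nat.div_one]
      have := H25.HeightTwoThree.card_eq_three_of_three hM F.P
        (by rw [← Nat.card_congr (Equiv.refl G)]
            exact (show 3 ∣ Nat.card F.S by rw [F.h27]; norm_num).trans
              (Subgroup.card_subgroup_dvd_card _)) rfl hz
      rw [F.h27] at this
      omega
    rcases Data.card_T_of_one A (hcard.trans h) h3 with h6 | ⟨h9, hA⟩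
    · exact Or.inl h6
    · exact Or.inr ⟨h9, fun hl hlz => Data.le_four_of_nine A (hcard.trans h) h9 hA hl hlz⟩

/-- The invariants of the block. -/
theorem invariants (hM : IsPModular 3 M) (F : Fus G) :
    (F.e = 1 → Nat.card (principalBlock M G) = 11 ∧ (heightZero M G).card = 9 ∧
      blockRank 3 (principalBlock M G) = 1) ∧
    (F.e = 2 → Nat.card (principalBlock M G) = 10 ∧ (heightZero M G).card = 6 ∧
      blockRank 3 (principalBlock M G) = 2) ∧
    (F.e = 4 → Nat.card (principalBlock M G) = 14 ∧ (heightZero M G).card = 6 ∧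
      blockRank 3 (principalBlock M G) = 4) ∧
    (F.e = 8 → Nat.card (principalBlock M G) = 16 ∧ (heightZero M G).card = 6 ∧
      blockRank 3 (principalBlock M G) = 5) := by
  obtain ⟨R, hR1, hR2, hR3, hRe⟩ := F.exists_reps
  let Rp : F.Reps := ⟨R, hR1, hR2, hR3⟩
  have hne8 : R.card ≠ 8 → 2 ∣ F.e := by
    intro h
    have hd : F.e ∣ 2 ^ 3 := ⟨R.card, by rw [mul_comm]; exact hRe.symm⟩
    obtain ⟨k, -, hk⟩ := (Nat.dvd_prime_pow Nat.prime_two).1 hd
    rcases k with _ | k
    · rw [hk] at hRe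
      simp at hRe
      exact absurd hRe h
    · rw [hk, pow_succ]
      exact dvd_mul_left _ _
  obtain ⟨D, hT, -, hc, hP0, hP1⟩ := exists_data (M := M) hM F Rp
  have hreal : R.card ≠ 8 → ∀ x ∈ R, IsConj x x⁻¹ := fun h x hx =>
    F.isConj_inv (hne8 h) (hR1 x hx)
  obtain ⟨a8, a4, a2, a1⟩ := card_T_cases hM F Rp D hT hc hreal
  have hzc : F.res.z ∈ Subgroup.center ↥(C[F.z] : Subgroup G) :=
    Subgroup.mem_center_iff.2 fun g =>
      Subtype.ext (Subgroup.mem_centralizer_singleton_iff.1 g.2)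
  obtain ⟨C, hTH, hcH, hlH⟩ := exists_cdata (M := M) hM F.res hzc (F.resReps Rp)
  have hcR : (F.resReps Rp).R.card = R.card := F.card_resReps Rp
  have hrealH : (F.resReps Rp).R.card ≠ 8 → ∀ x ∈ (F.resReps Rp).R, IsConj x x⁻¹ := fun h x hx =>
    F.res_isConj_inv (hne8 (by rwa [hcR] at h)) (hR1 _ (Finset.mem_subtype.1 hx))
  obtain ⟨b8, b4, b2, b1⟩ := card_T_cases hM F.res (F.resReps Rp) C.toData hTH hcH hrealH
  set lz := blockRank 3 (principalBlock M ↥(C[F.z] : Subgroup G)) with hlz
  set l := blockRank 3 (principalBlock M G) with hl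
  have hRpos : 0 < R.card := by
    rcases Nat.eq_zero_or_pos R.card with h | h
    · rw [h, zero_mul] at hRe; omega
    · exact h
  haveI : Nonempty (F.resReps Rp).R := by
    rw [← Fintype.card_pos_iff, Fintype.card_coe, hcR]; exact hRpos
  have hH := C.card_T hlH
  rw [Fintype.card_coe, hcR] at hH
  have htr0 : D.P0.trace = (l : ℂ) := by rw [hP0, trace_P0 hM]
  have htr1 : D.P1.trace = (lz : ℂ) := by rw [hP1, trace_P1 hM F]
  have hk := D.card_eq htr0 htr1
  rw [← natCard_block_eq, Fintype.card_coe] at hk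
  have hle := D.rank_eq htr0 htr1
  rw [Fintype.card_coe] at hle
  have hRR : Rp.R.card = R.card := rfl
  change _ = _ + R.card at hk
  rw [← hT, hk]
  refine ⟨fun he => ?_, fun he => ?_, fun he => ?_, fun he => ?_⟩ <;> rw [he] at hRe
  · have := a8 (show R.card = 8 by omega)
    have := b8 (show (F.resReps Rp).R.card = 8 by omega)
    have := hle (by omega)
    omega
  · have := a4 (show R.card = 4 by omega)
    have := b4 (show (F.resReps Rp).R.card = 4 by omega)
    have := hle (by omega)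
    omega
  · have := a2 (show R.card = 2 by omega)
    have := b2 (show (F.resReps Rp).R.card = 2 by omega)
    have := hle (by omega)
    omega
  · have hH6 : C.T.card = 6 := by
      rcases b1 (show (F.resReps Rp).R.card = 1 by omega) with h | ⟨h9, h4⟩
      · exact h
      · have := h4 hlH (C.trace_eq.trans hlH)
        omega
    have hG6 : D.T.card = 6 := by
      rcases a1 (show R.card = 1 by omega) with h | ⟨h9, h4⟩
      · exact h
      · have := h4 htr0 htr1
        omega
    have := hle (by omega)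
    omega

end H12.Extra27
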