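import Cfsg.Agent.H12.Extra27.Count
import Cfsg.Agent.H12.Extra27.Fusion
import Cfsg.Agent.H19.MajorDyadic
import Cfsg.Agent.H19.StarSums
import Cfsg.Agent.H22.SectionOrth
import Cfsg.Agent.H20.PrincipalColumn

/-!
# The sections of the principal `3`-block
-/

set_option autoImplicit false
set_option linter.unusedSectionVars false
set_option linter.style.haveILetI false

open Cfsg Finset Polynomial
open scoped ComplexConjugate

namespace H12.Extra27

universe u

variable {G : Type u} [Group G] [Fintype G]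

local notation "C[" x "]" => (Subgroup.centralizer ({x} : Set _))

/-! ### The Eisenstein integers -/

theorem eisenstein_sq {ω : ℂ} (hω : IsPrimitiveRoot ω 3) : ω ^ 2 + ω + 1 = 0 := by
  have h := hω.geom_sum_eq_zero (by norm_num : 1 < 3)
  simp only [Finset.sum_range_succ, Finset.sum_range_zero, pow_zero, pow_one, zero_add] at h
  linear_combination h

theorem aeval_eisenstein {ω : ℂ} (hω : IsPrimitiveRoot ω 3) (P : ℤ[X]) :
    ∃ a b : ℤ, aeval ω P = (a : ℂ) + (b : ℂ) * ω := by
  induction P using Polynomial.induction_on with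
  | C a => exact ⟨a, 0, by simp⟩
  | add P Q hP hQ =>
    obtain ⟨a, b, h⟩ := hP
    obtain ⟨a', b', h'⟩ := hQ
    exact ⟨a + a', b + b', by rw [map_add, h, h']; push_cast; ring⟩
  | monomial n c h =>
    obtain ⟨a, b, h⟩ := h
    refine ⟨-b, a - b, ?_⟩
    rw [pow_succ, ← mul_assoc, map_mul, h, aeval_X]
    push_cast
    linear_combination (b : ℂ) * eisenstein_sq hω

theorem conj_root {ω : ℂ} (hω : IsPrimitiveRoot ω 3) : conj ω = ω ^ 2 := by
  have hn : ‖ω‖ = 1 := Complex.norm_eq_one_of_pow_eq_one hω.pow_eq_one three_ne_zero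
  rw [← Complex.inv_eq_conj hn]
  refine inv_eq_of_mul_eq_one_right ?_
  rw [← pow_succ', hω.pow_eq_one]

/-- A real value of an integral polynomial at `ω` is an integer. -/
theorem int_of_real {ω : ℂ} (hω : IsPrimitiveRoot ω 3) (P : ℤ[X])
    (h : conj (aeval ω P) = aeval ω P) : ∃ m : ℤ, aeval ω P = (m : ℂ) := by
  obtain ⟨a, b, hab⟩ := aeval_eisenstein hω P
  refine ⟨a, ?_⟩
  rw [hab, map_add, map_mul, conj_root hω, map_intCast, map_intCast] at h
  have h2 : (b : ℂ) * (ω * (ω - 1)) = 0 := by linear_combination h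
  rcases mul_eq_zero.1 h2 with h3 | h3
  · rw [hab, h3, zero_mul, add_zero]
  · rcases mul_eq_zero.1 h3 with h4 | h4
    · exact absurd h4 (hω.ne_zero three_ne_zero)
    · exact absurd (sub_eq_zero.1 h4) (hω.ne_one (by norm_num))

/-- The norm of a value of an integral polynomial at `ω` is an integer. -/
theorem norm_int {ω : ℂ} (hω : IsPrimitiveRoot ω 3) (P : ℤ[X]) :
    ∃ m : ℤ, aeval ω P * conj (aeval ω P) = (m : ℂ) := by
  obtain ⟨a, b, hab⟩ := aeval_eisenstein hω P
  refine ⟨a ^ 2 - a * b + b ^ 2, ?_⟩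
  rw [hab, map_add, map_mul, conj_root hω, map_intCast, map_intCast]
  push_cast
  linear_combination (a : ℂ) * b * eisenstein_sq hω + (b : ℂ) ^ 2 * hω.pow_eq_one

/-! ### Sums over the sections -/

/-- The elements with given `3`-part. -/
noncomputable def secSet (u : G) : Finset G := by
  classical exact univ.filter fun g => H20.pPart 3 g = u

theorem mem_secSet {u g : G} : g ∈ secSet u ↔ H20.pPart 3 g = u := by
  classical
  rw [secSet, mem_filter]
  simp

/-- The sum of `χ * conj ψ` over the section of `u`. -/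
noncomputable def secSum (u : G) (χ ψ : IrrCharacter G) : ℂ :=
  ∑ g ∈ secSet u, (χ : G → ℂ) g * conj ((ψ : G → ℂ) g)

/-- The contribution of the section of `u`. -/
noncomputable def sec (u : G) (χ ψ : IrrCharacter G) : ℂ :=
  secSum u χ ψ / (Nat.card (C[u] : Subgroup G) : ℂ)

theorem conj_secSum (u : G) (χ ψ : IrrCharacter G) : conj (secSum u χ ψ) = secSum u ψ χ := by
  simp only [secSum, map_sum, map_mul, Complex.conj_conj]
  exact sum_congr rfl fun g _ => mul_comm _ _

theorem conj_sec (u : G) (χ ψ : IrrCharacter G) : conj (sec u χ ψ) = sec u ψ χ := by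
  rw [sec, sec, map_div₀, conj_secSum, Complex.conj_natCast]

variable [h3f : Fact (Nat.Prime 3)]

theorem secSum_inv (u : G) (χ ψ : IrrCharacter G) : secSum u⁻¹ χ ψ = conj (secSum u χ ψ) := by
  simp only [secSum, map_sum, map_mul, Complex.conj_conj]
  refine sum_nbij' (fun g => g⁻¹) (fun g => g⁻¹) (fun g hg => ?_) (fun g hg => ?_)
    (fun g _ => inv_inv g) (fun g _ => inv_inv g) fun g _ => ?_
  · rw [mem_secSet] at hg ⊢
    rw [H20.pPart_inv, hg, inv_inv]
  · rw [mem_secSet] at hg ⊢
    rw [H20.pPart_inv, hg]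
  · rw [H12.irr_inv, H12.irr_inv]
    simp

theorem sec_inv (u : G) (χ ψ : IrrCharacter G) : sec u⁻¹ χ ψ = conj (sec u χ ψ) := by
  have h : (C[u⁻¹] : Subgroup G) = C[u] := by
    ext w
    simp only [Subgroup.mem_centralizer_singleton_iff]
    exact ⟨fun h => by simpa using (show Commute w u⁻¹ from h).inv_right.eq,
      fun h => (show Commute w u from h).inv_right.eq⟩
  rw [sec, sec, map_div₀, secSum_inv, Complex.conj_natCast, h]

theorem secSum_conj (u c : G) (χ ψ : IrrCharacter G) :
    secSum (c * u * c⁻¹) χ ψ = secSum u χ ψ := by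
  refine sum_nbij' (fun g => c⁻¹ * g * c) (fun g => c * g * c⁻¹) (fun g hg => ?_) (fun g hg => ?_)
    (fun g _ => by group) (fun g _ => by group) fun g _ => ?_
  · rw [mem_secSet] at hg ⊢
    have := H20.pPart_conj (p := 3) g c⁻¹
    rw [inv_inv] at this
    rw [this, hg]
    group
  · rw [mem_secSet] at hg ⊢
    rw [H20.pPart_conj, hg]
  · have e1 := H12.irr_isClassFunction χ g c⁻¹
    have e2 := H12.irr_isClassFunction ψ g c⁻¹
    rw [inv_inv] at e1 e2
    rw [e1, e2]

/-- A section as a sum over the regular elements of the centralizer. -/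
theorem secSum_eq {u : G} (hu : ∃ k : ℕ, orderOf u = 3 ^ k) [Fintype (C[u] : Subgroup G)]
    (χ ψ : IrrCharacter G) :
    secSum u χ ψ = ∑ s ∈ univ.filter (fun s : (C[u] : Subgroup G) => ¬ 3 ∣ orderOf s),
      (χ : G → ℂ) (u * (s : G)) * conj ((ψ : G → ℂ) (u * (s : G))) := by
  classical
  refine (sum_bij (fun (s : (C[u] : Subgroup G)) _ => u * (s : G)) ?_ ?_ ?_ ?_).symm
  · intro s hs
    exact mem_secSet.2 (H20.centralizer_le_of_pPart u s hu (mem_filter.1 hs).2)
  · intro a _ b _ h
    exact Subtype.ext (mul_left_cancel h)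
  · intro g hg
    rw [mem_secSet] at hg
    subst hg
    refine ⟨⟨H20.qPart 3 g, Subgroup.mem_centralizer_singleton_iff.2
      (H20.commute_pPart_qPart g).symm.eq⟩, mem_filter.2 ⟨mem_univ _, ?_⟩,
      H20.pPart_mul_qPart g⟩
    rw [← Subgroup.orderOf_coe]
    exact H20.not_dvd_orderOf_qPart g
  · exact fun _ _ => rfl

theorem secSum_one (χ ψ : IrrCharacter G) :
    secSum 1 χ ψ = (Nat.card G : ℂ) * H22.Delta 3 χ ψ := by
  classical
  rw [H22.Delta, H12.classInner_def, ← mul_assoc, mul_inv_cancel₀ (Nat.cast_ne_zero.2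
    Nat.card_pos.ne'), one_mul, secSum, secSet, sum_filter]
  refine sum_congr rfl fun g _ => ?_
  rw [H22.pRegularPart_apply]
  by_cases h : 3 ∣ orderOf g
  · rw [if_pos h, if_neg (fun e => H20.pPart_eq_one_iff.1 e h), zero_mul]
  · rw [if_neg h, if_pos (H20.pPart_eq_one_iff.2 h)]

theorem sec_one (χ ψ : IrrCharacter G) : sec 1 χ ψ = H22.Delta 3 χ ψ := by
  have h : (C[(1 : G)] : Subgroup G) = ⊤ :=
    top_unique fun w _ => Subgroup.mem_centralizer_singleton_iff.2 (by simp)
  rw [sec, h, Subgroup.card_top, secSum_one,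
    mul_div_cancel_left₀ _ (Nat.cast_ne_zero.2 Nat.card_pos.ne')]

/-- A central element scales the regular section. -/
theorem sec_central {z : G} (hz : z ∈ Subgroup.center G) (hu : ∃ k : ℕ, orderOf z = 3 ^ k)
    (χ ψ : IrrCharacter G) :
    sec z χ ψ = (χ : G → ℂ) z / (χ : G → ℂ) 1 * conj ((ψ : G → ℂ) z / (ψ : G → ℂ) 1) *
      H22.Delta 3 χ ψ := by
  classical
  have hC : (C[z] : Subgroup G) = ⊤ :=
    top_unique fun w _ => Subgroup.mem_centralizer_singleton_iff.2 (Subgroup.mem_center_iff.1 hz w)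
  haveI := Fintype.ofFinite (C[z] : Subgroup G)
  have h1 : (C[(1 : G)] : Subgroup G) = ⊤ :=
    top_unique fun w _ => Subgroup.mem_centralizer_singleton_iff.2 (by simp)
  have e1 : Nat.card (C[(1 : G)] : Subgroup G) = Nat.card G := by rw [h1, Subgroup.card_top]
  have ez : Nat.card (C[z] : Subgroup G) = Nat.card G := by rw [hC, Subgroup.card_top]
  rw [← sec_one, sec, sec, secSum_eq hu, e1, ez, mul_div_assoc']
  congr 1
  rw [secSum, mul_sum]
  refine sum_bij (fun (s : (C[z] : Subgroup G)) _ => (s : G)) ?_ ?_ ?_ ?_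
  · intro s hs
    rw [mem_secSet, H20.pPart_eq_one_iff, Subgroup.orderOf_coe]
    exact (mem_filter.1 hs).2
  · exact fun a _ b _ h => Subtype.ext h
  · intro g hg
    rw [mem_secSet, H20.pPart_eq_one_iff] at hg
    exact ⟨⟨g, hC.symm ▸ Subgroup.mem_top g⟩,
      mem_filter.2 ⟨mem_univ _, by rwa [Subgroup.orderOf_mk]⟩, rfl⟩
  · intro s _
    rw [H21.apply_central_mul χ hz, H21.apply_central_mul ψ hz, map_mul]
    ring

variable {M : Ideal AlgInt} [M.IsPrime]

/-- The sections are idempotent on the principal block. -/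
theorem sec_idem (hM : IsPModular 3 M) {u : G} (hu : ∃ k : ℕ, orderOf u = 3 ^ k)
    {χ : IrrCharacter G} (hχ : χ ∈ principalBlock M G) (ψ : IrrCharacter G) :
    ∑ φ ∈ H22.blockFinset (principalBlock M G), sec u χ φ * sec u φ ψ = sec u χ ψ := by
  classical
  haveI := Fintype.ofFinite (C[u] : Subgroup G)
  set b := principalBlock M (C[u] : Subgroup G) with hb
  set S := univ.filter (fun s : (C[u] : Subgroup G) => ¬ 3 ∣ orderOf s) with hS
  set N : ℂ := (Nat.card (C[u] : Subgroup G) : ℂ) with hN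
  have hN0 : N ≠ 0 := Nat.cast_ne_zero.2 Nat.card_pos.ne'
  simp only [sec, secSum_eq hu, ← hS, ← hN]
  have key : ∀ t ∈ S, ∑ s ∈ S, (χ : G → ℂ) (u * (s : G)) *
      ∑ η ∈ H22.blockFinset b, (η : _ → ℂ) t * conj ((η : _ → ℂ) s) =
      N * (χ : G → ℂ) (u * (t : G)) := by
    intro t ht
    set f : (C[u] : Subgroup G) → ℂ := fun c => (χ : G → ℂ) (u * (c : G)) with hf
    rw [H20.principal_shift hM hu hχ t (mem_filter.1 ht).2,
      H20.blockPart_congr_regular hM (H20.isPBlock_principalBlock) (f' := pRegularPart 3 f)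
        (fun w hw => (H22.pRegularPart_of_not_dvd f hw).symm) (mem_filter.1 ht).2,
      H22.Sub.blockPart_eq_smul_sum, Finset.sum_apply, mul_sum]
    simp only [mul_sum]
    rw [sum_comm]
    refine sum_congr rfl fun η _ => ?_
    rw [Pi.smul_apply, smul_eq_mul, H12.classInner_def, ← mul_assoc, ← mul_assoc,
      mul_inv_cancel₀ hN0, one_mul, sum_mul, hS, sum_filter]
    refine sum_congr rfl fun c _ => ?_
    rw [H22.pRegularPart_apply]
    split_ifs <;> simp [hf] <;> ring
  calc ∑ φ ∈ H22.blockFinset (principalBlock M G),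
        (∑ s ∈ S, (χ : G → ℂ) (u * (s : G)) * conj ((φ : G → ℂ) (u * (s : G)))) / N *
        ((∑ t ∈ S, (φ : G → ℂ) (u * (t : G)) * conj ((ψ : G → ℂ) (u * (t : G)))) / N)
      = (∑ t ∈ S, conj ((ψ : G → ℂ) (u * (t : G))) * ∑ s ∈ S, (χ : G → ℂ) (u * (s : G)) *
          ∑ φ ∈ H22.blockFinset (principalBlock M G),
            (φ : G → ℂ) (u * (t : G)) * conj ((φ : G → ℂ) (u * (s : G)))) / (N * N) := by
        rw [eq_div_iff (mul_ne_zero hN0 hN0), sum_mul]
        simp only [mul_sum]
        conv_rhs => rw [sum_congr rfl fun t _ => sum_comm, sum_comm]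
        refine sum_congr rfl fun φ _ => ?_
        rw [div_mul_div_comm, div_mul_cancel₀ _ (mul_ne_zero hN0 hN0), sum_mul_sum, sum_comm]
        exact sum_congr rfl fun t _ => sum_congr rfl fun s _ => by ring
    _ = _ := by
        rw [sum_congr rfl fun t ht => by
          rw [sum_congr rfl fun s hs => by
            rw [H22.Sub.principal_section_orth hM hu t s (mem_filter.1 ht).2 (mem_filter.1 hs).2],
            key t ht]]
        rw [div_eq_div_iff (mul_ne_zero hN0 hN0) hN0, sum_mul, sum_mul]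
        exact sum_congr rfl fun t _ => by ring

/-- The trace of a section. -/
theorem sec_trace (hM : IsPModular 3 M) {u : G} (hu : ∃ k : ℕ, orderOf u = 3 ^ k) :
    ∑ χ ∈ H22.blockFinset (principalBlock M G), sec u χ χ =
      (blockRank 3 (principalBlock M (C[u] : Subgroup G)) : ℂ) := by
  classical
  haveI := Fintype.ofFinite (C[u] : Subgroup G)
  simp only [sec, secSum_eq hu]
  rw [← H19.RegSpan.sum_classInner_eq_rank hM H20.isPBlock_principalBlock, H22.finsum_mem_block,
    ← sum_div, sum_comm]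
  rw [sum_congr rfl fun s hs => H22.Sub.principal_section_orth hM hu s s (mem_filter.1 hs).2
    (mem_filter.1 hs).2, sum_comm, sum_div]
  refine sum_congr rfl fun η _ => ?_
  rw [H12.classInner_def, sum_filter, div_eq_inv_mul]
  congr 1
  refine sum_congr rfl fun c _ => ?_
  rw [H22.pRegularPart_apply]
  split_ifs <;> simp

/-- The columns at a `3`-element whose centralizer has a normal `3`-complement. -/
theorem col_norm (hM : IsPModular 3 M) {u : G} (hu : ∃ k : ℕ, orderOf u = 3 ^ k)
    (hc : HasNormalPComplement 3 (C[u] : Subgroup G)) :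
    ∑ χ ∈ H22.blockFinset (principalBlock M G), (χ : G → ℂ) u * conj ((χ : G → ℂ) u) =
      (3 : ℂ) ^ (Nat.card (C[u] : Subgroup G)).factorization 3 := by
  classical
  haveI := Fintype.ofFinite (C[u] : Subgroup G)
  have h := H22.Sub.principal_section_orth hM hu (1 : (C[u] : Subgroup G)) 1 (by simp) (by simp)
  simp only [OneMemClass.coe_one, mul_one] at h
  rw [h, H22.Sub.sum_principal_of_complement hM hc (by simp) (by simp)]
  norm_num

/-- The contribution of such an element is its scaled column. -/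
theorem sec_complement (hM : IsPModular 3 M) {u : G} (hu : ∃ k : ℕ, orderOf u = 3 ^ k)
    (hc : HasNormalPComplement 3 (C[u] : Subgroup G)) {χ ψ : IrrCharacter G}
    (hχ : χ ∈ principalBlock M G) (hψ : ψ ∈ principalBlock M G) :
    sec u χ ψ = (χ : G → ℂ) u * conj ((ψ : G → ℂ) u) /
      (3 : ℂ) ^ (Nat.card (C[u] : Subgroup G)).factorization 3 := by
  classical
  haveI := Fintype.ofFinite (C[u] : Subgroup G)
  set S := univ.filter (fun s : (C[u] : Subgroup G) => ¬ 3 ∣ orderOf s) with hS
  have hconst : ∀ φ ∈ principalBlock M G, ∀ s ∈ S, (φ : G → ℂ) (u * (s : G)) = (φ : G → ℂ) u := by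
    intro φ hφ s hs
    have h1 := H20.principal_shift hM hu hφ (1 : (C[u] : Subgroup G)) (by simp)
    rw [OneMemClass.coe_one, mul_one] at h1
    rw [H20.principal_shift hM hu hφ s (mem_filter.1 hs).2, h1, H20.blockPart_eq_sum,
      H20.blockPart_eq_sum]
    refine sum_congr rfl fun η _ => ?_
    by_cases hη : η ∈ principalBlock M (C[u] : Subgroup G)
    · rw [if_pos hη, if_pos hη,
        H22.Sub.apply_regular_of_complement hM hc hη (mem_filter.1 hs).2]
    · rw [if_neg hη, if_neg hη]
  have hval : ∀ φ φ' : IrrCharacter G, φ ∈ principalBlock M G → φ' ∈ principalBlock M G →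
      sec u φ φ' = ((S.card : ℂ) / (Nat.card (C[u] : Subgroup G) : ℂ)) *
        ((φ : G → ℂ) u * conj ((φ' : G → ℂ) u)) := by
    intro φ φ' h h'
    rw [sec, secSum_eq hu, ← hS, sum_congr rfl fun s hs => by rw [hconst φ h s hs, hconst φ' h' s hs],
      sum_const, nsmul_eq_mul]
    ring
  have htr := sec_trace (M := M) hM hu
  rw [H22.Sub.blockRank_principal_of_complement hM hc, Nat.cast_one,
    sum_congr rfl fun φ hφ => hval φ φ (H22.mem_blockFinset.1 hφ) (H22.mem_blockFinset.1 hφ),
    ← mul_sum, col_norm hM hu hc] at htr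
  rw [hval χ ψ hχ hψ, eq_div_iff (pow_ne_zero _ three_ne_zero)]
  linear_combination ((χ : G → ℂ) u * conj ((ψ : G → ℂ) u)) * htr

end H12.Extra27
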